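/-
Collection in a chosen order of the roots, with polynomials of at most three terms.
-/
import Cfsg.Agent.Lib.Chev.InvolCert.Node

set_option autoImplicit false

namespace Cfsg.Agent.Chev.InvolCert.Tw

open Cfsg.Lie Cfsg.Agent.Chev Cfsg.Agent.Chev.InvolCert

/-- Forget long polynomials. -/
def cap3 (l : List (List ℕ)) : Poly :=
  bif Nat.ble l.length 3 && l.all (fun m => Nat.ble m.length 4) then some l else none

/-- Sum. -/
def padd3 : Poly → Poly → Poly
  | some p, some q => cap3 (q.foldl (fun l m => tog m l) p)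
  | _, _ => none

/-- Product. -/
def pmul3 : Poly → Poly → Poly
  | some [], _ => some []
  | _, some [] => some []
  | some p, some q => cap3 ((p.flatMap fun a => q.map fun b => mulM a b).foldl (fun l m => tog m l) [])
  | _, _ => none

/-- Power. -/
def ppow3 (p : Poly) : ℕ → Poly
  | 0 => some [[]]
  | k + 1 => pmul3 (ppow3 p k) p

/-- The terms of the commutator of two letters. -/
def corr3 (P : Pk) (e f : AL) : List AL :=
  (P.cword f.1 e.1).filterMap fun c =>
    if c.2.1 % 2 == 0 then none else some (c.1, pmul3 (ppow3 f.2 c.2.2.1) (ppow3 e.2 c.2.2.2))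

/-- Multiply a word on the left by a letter, collecting in increasing order of `ky`. -/
def insK (P : Pk) (ky : ℕ → ℕ) : ℕ → AL → List AL → List AL
  | 0, e, w => e :: w
  | n + 1, e, w =>
    bif isZ e.2 then w else
    match w with
    | [] => [e]
    | f :: w =>
      bif Nat.beq e.1 f.1 then (bif isZ (padd3 e.2 f.2) then w else (e.1, padd3 e.2 f.2) :: w)
      else bif Nat.blt (ky e.1) (ky f.1) then e :: f :: w
      else bif Nat.blt e.1 P.nroots && Nat.blt f.1 P.nroots && !(Nat.beq e.1 (P.ng f.1)) then
        insK P ky n f (insK P ky n e ((corr3 P e f).foldr (insK P ky n) w))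
      else e :: f :: w

/-- The collected form. -/
def nfK (P : Pk) (ky : ℕ → ℕ) (w : List AL) : List AL := w.foldr (insK P ky 400) []

/-- Sum of monomials modulo two is zero. -/
def zeroS (l : List (List ℕ)) : Bool := (l.foldl (fun a m => tog m a) []).isEmpty

/-- Equality of lists of monomials. -/
def eqLL : List (List ℕ) → List (List ℕ) → Bool
  | [], [] => true
  | a :: p, b :: q => eqM a b && eqLL p q
  | _, _ => false

/-- Equality of polynomials. -/
def eqP : Poly → Poly → Bool
  | some p, some q => eqLL p q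
  | _, _ => false

/-- Equality of words with known coefficients. -/
def eqW : List AL → List AL → Bool
  | [], [] => true
  | a :: p, b :: q => Nat.beq a.1 b.1 && eqP a.2 b.2 && eqW p q
  | _, _ => false

section Eval

variable {F : Type*} [Field F] [CharP F 2] {v : ℕ → F}

theorem zeroS_ev {l : List (List ℕ)} (h : zeroS l = true) : evS v l = 0 := by
  have e := evS_foldl (v := v) l []
  rw [zeroS, List.isEmpty_iff] at h
  rw [h] at e
  simpa [evS] using e.symm

theorem evP_cap3 {l : List (List ℕ)} {x : F} (h : x = evS v l) : EvP v (cap3 l) x := by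
  unfold cap3
  cases Nat.ble l.length 3 && l.all fun m => Nat.ble m.length 4 <;> simp [EvP, h]

theorem evP_padd3 : ∀ {p q : Poly} {x y : F}, EvP v p x → EvP v q y → EvP v (padd3 p q) (x + y)
  | some p, some q, x, y, hx, hy => evP_cap3 (by rw [evS_foldl, hx, hy])
  | none, _, _, _, _, _ => trivial
  | some _, none, _, _, _, _ => trivial

theorem evP_pmul3 {p q : Poly} {x y : F} (hx : EvP v p x) (hy : EvP v q y) : EvP v (pmul3 p q) (x * y) := by
  unfold pmul3
  split
  · rw [evP_zero (p := some []) rfl hx, zero_mul]; simp [EvP, evS]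
  · rw [evP_zero (p := some []) rfl hy, mul_zero]; simp [EvP, evS]
  · rename_i p q _ _
    refine evP_cap3 ?_
    rw [evS_foldl, evS_flat, show x = evS v p from hx, show y = evS v q from hy]
    simp [evS]
  · trivial

theorem evP_ppow3 {p : Poly} {x : F} (hx : EvP v p x) : ∀ k, EvP v (ppow3 p k) (x ^ k)
  | 0 => by simp [ppow3, EvP, evS, evM]
  | k + 1 => by rw [pow_succ]; exact evP_pmul3 (evP_ppow3 hx k) hx

theorem eqLL_iff : ∀ {p q : List (List ℕ)}, eqLL p q = true → p = q
  | [], [], _ => rfl
  | a :: p, b :: q, h => by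
    simp only [eqLL, Bool.and_eq_true] at h
    rw [eqM_iff h.1, eqLL_iff h.2]
  | [], _ :: _, h => by simp [eqLL] at h
  | _ :: _, [], h => by simp [eqLL] at h

theorem eqP_ev {p q : Poly} {x y : F} (h : eqP p q = true) (hx : EvP v p x) (hy : EvP v q y) : x = y := by
  match p, q, h with
  | some p, some q, h => rw [eqLL_iff h] at hx; exact hx.trans hy.symm

variable {D : ChevalleyDatum} {P : Pk} (h : Ok D P)

theorem eqW_ev : ∀ {a b : List AL} {g g' : GL D.Idx F}, eqW a b = true → Ev h v a g → Ev h v b g' → g = g'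
  | [], [], _, _, _, ha, hb => (show _ = _ from ha).trans (show _ = _ from hb).symm
  | a :: p, b :: q, _, _, e, ha, hb => by
    simp only [eqW, Bool.and_eq_true, nbeq, decide_eq_true_eq] at e
    obtain ⟨x, g1, hx, hg1, rfl⟩ := ha
    obtain ⟨y, g2, hy, hg2, rfl⟩ := hb
    rw [eqP_ev e.1.2 hx hy, eqW_ev e.2 hg1 hg2, e.1.1]
  | [], _ :: _, _, _, e, _, _ => by simp [eqW] at e
  | _ :: _, [], _, _, e, _, _ => by simp [eqW] at e

variable (hC : P.ckComm = true) (ky : ℕ → ℕ)
include hC

theorem ev_insK (n : ℕ) : ∀ (e : AL) (w : List AL) (x : F) (g : GL D.Idx F), EvP v e.2 x → Ev h v w g →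
    Ev h v (insK P ky n e w) (h.xG e.1 x * g) := by
  induction n with
  | zero => intro e w x g hx hg; exact ev_cons h hx hg
  | succ n ih =>
    intro e w x g hx hg
    unfold insK
    cases hz : isZ e.2
    swap
    · simp only [cond_true]
      rw [evP_zero hz hx, h.xG_zero, one_mul]; exact hg
    simp only [cond_false]
    cases w with
    | nil => exact ev_cons h hx hg
    | cons f w =>
      obtain ⟨y, g', hy, hg', rfl⟩ := hg
      simp only
      cases h1 : Nat.beq e.1 f.1
      swap
      · simp only [cond_true]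
        simp only [nbeq, decide_eq_true_eq] at h1
        rw [← mul_assoc, ← h1, h.xG_add]
        cases h2 : isZ (padd3 e.2 f.2)
        · exact ev_cons h (e := (e.1, padd3 e.2 f.2)) (evP_padd3 hx hy) hg'
        · rw [evP_zero h2 (evP_padd3 hx hy), h.xG_zero, one_mul]; exact hg'
      simp only [cond_false]
      cases h2 : Nat.blt (ky e.1) (ky f.1)
      swap
      · exact ev_cons h hx (ev_cons h hy hg')
      simp only [cond_false]
      cases h3 : Nat.blt e.1 P.nroots && Nat.blt f.1 P.nroots && !(Nat.beq e.1 (P.ng f.1))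
      · exact ev_cons h hx (ev_cons h hy hg')
      simp only [cond_true]
      simp only [Bool.and_eq_true, Nat.blt_eq, Bool.not_eq_true', nbeq, decide_eq_false_iff_not] at h3
      simp only [nbeq, decide_eq_false_iff_not] at h1
      rw [← mul_assoc, h.comm_xG hC h3.1.2 h3.1.1 h1 h3.2 y x, mul_assoc (h.xG f.1 y), mul_assoc (h.xG f.1 y)]
      refine ih f _ y _ hy ?_
      rw [mul_assoc (h.xG e.1 x)]
      refine ih e _ x _ hx ?_
      rw [corr3]
      generalize P.cword f.1 e.1 = L
      induction L with
      | nil => simpa using hg'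
      | cons c L ihL =>
        rw [List.map_cons, List.prod_cons, mul_assoc, int_cast_two (F := F)]
        by_cases hc : c.2.1 % 2 = 0
        · rw [List.filterMap_cons_none (by simp [hc]), if_pos hc, zero_mul, zero_mul, h.xG_zero, one_mul]
          exact ihL
        · rw [List.filterMap_cons_some (b := (c.1, pmul3 (ppow3 f.2 c.2.2.1) (ppow3 e.2 c.2.2.2))) (by simp [hc]),
            if_neg hc, one_mul, List.foldr_cons]
          exact ih (c.1, _) _ _ _ (evP_pmul3 (evP_ppow3 hy _) (evP_ppow3 hx _)) ihL

theorem ev_nfK : ∀ {w : List AL} {g : GL D.Idx F}, Ev h v w g → Ev h v (nfK P ky w) g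
  | [], _, hg => hg
  | e :: w, g, hg => by
    obtain ⟨x, g', hx, hg', rfl⟩ := hg
    exact ev_insK h hC ky 400 e _ x g' hx (ev_nfK hg')

end Eval

end Cfsg.Agent.Chev.InvolCert.Tw
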