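/-
Unipotent elements fixed by a graph-field automorphism, in an order compatible with the automorphism.
-/
import Cfsg.Agent.Lib.Chev.InvolCert.Tw.Col
import Cfsg.Agent.Lib.Chev.InvolCert.Stage
import Cfsg.Agent.Lib.Chev.Unipotent

set_option autoImplicit false

namespace Cfsg.Agent.Chev.InvolCert.Tw

open Cfsg.Lie Cfsg.Agent.Chev Cfsg.Agent.Chev.InvolCert

/-- The combinatorial data: key, permutation of the roots, roots in key order, generating words. -/
structure Spec where
  ky : ℕ → ℕ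
  rho : ℕ → ℕ
  lk : List ℕ
  gens : List (List ℕ)

/-- The checks on the data. -/
def Spec.ck (S : Spec) (P : Pk) : Bool :=
  (S.lk.all fun r => P.isPos r && S.lk.any (Nat.beq (S.rho r)) && Nat.beq (S.lk.countP (Nat.beq r)) 1) &&
  ((posL P).all fun r => S.lk.any (Nat.beq r)) &&
  Nat.beq S.lk.length (P.nroots / 2) &&
  (P.allRoots.all fun r => Nat.blt (S.rho r) P.nroots && Nat.beq (S.rho (S.rho r)) r &&
    Nat.beq (S.rho (P.ng r)) (P.ng (S.rho r))) &&
  eqW (nfK P S.ky (S.lk.map fun r => (S.rho r, some [[r]]))) (S.lk.map fun r => (r, some [[S.rho r]])) &&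
  Nat.ble P.nroots 254 &&
  eqLs ((nfK P S.ky (varW (posL P))).map Prod.fst)
    (S.lk.filter fun r => ((nfK P S.ky (varW (posL P))).map Prod.fst).any (Nat.beq r))

/-- The support is listed in key order. -/
def inOrd (S : Spec) (w : List AL) : Bool :=
  eqLs (w.map Prod.fst) (S.lk.filter fun r => (w.map Prod.fst).any (Nat.beq r))

/-- The roots in a mask, in key order. -/
def bitsK (S : Spec) (m : ℕ) : List ℕ := S.lk.filter fun r => Nat.testBit m r

/-- The twisted group. -/
structure Grp (D : ChevalleyDatum) (P : Pk) (h : Ok D P) (S : Spec) (F : Type*) [Field F] where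
  σ : GL D.Idx F → GL D.Idx F
  φ : F →+* F
  K : Subgroup (GL D.Idx F)
  phi2 : ∀ t, φ (φ t) = t
  map_mul : ∀ a ∈ D.group F, ∀ b ∈ D.group F, σ (a * b) = σ a * σ b
  map_x : ∀ r < P.nroots, ∀ t, σ (h.xG r t) = h.xG (S.rho r) (φ t)
  le : K ≤ D.group F
  fixed : ∀ g ∈ K, σ g = g
  mem : ∀ g ∈ D.group F, σ g = g → g ∈ K
  gens : ∀ l ∈ S.gens, h.nW l ∈ K
  moved : ∃ w, φ w ≠ w

variable {D : ChevalleyDatum} {P : Pk} {h : Ok D P} {S : Spec} {F : Type*} [Field F] [CharP F 2]

/-- A parameter function respecting the symmetry. -/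
def Grp.Sym (T : Grp D P h S F) (t : ℕ → F) : Prop := ∀ r < P.nroots, t (S.rho r) = T.φ (t r)

variable (hS : S.ck P = true)
include hS

omit [CharP F 2] in
theorem lk_pos {r : ℕ} (hr : r ∈ S.lk) : P.isPos r = true ∧ r < P.nroots ∧ S.rho r ∈ S.lk := by
  simp only [Spec.ck, Bool.and_eq_true, List.all_eq_true, List.any_eq_true, nbeq, decide_eq_true_eq] at hS
  obtain ⟨⟨h1, ⟨x, hx, e⟩⟩, -⟩ := hS.1.1.1.1.1.1 r hr
  exact ⟨h1, (P.isPos_iff.1 h1).2, e ▸ hx⟩

omit [CharP F 2] in
theorem rho_spec {r : ℕ} (hr : r < P.nroots) :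
    S.rho r < P.nroots ∧ S.rho (S.rho r) = r ∧ S.rho (P.ng r) = P.ng (S.rho r) := by
  simp only [Spec.ck, Bool.and_eq_true, List.all_eq_true, Nat.blt_eq, nbeq, decide_eq_true_eq] at hS
  obtain ⟨⟨a, b⟩, c⟩ := hS.1.1.1.2 r ((Pk.mem_allRoots P).2 hr)
  exact ⟨a, b, c⟩

omit [CharP F 2] in
theorem lk_nodup : S.lk.Nodup := by
  simp only [Spec.ck, Bool.and_eq_true, List.all_eq_true, nbeq, decide_eq_true_eq] at hS
  rw [List.nodup_iff_count_eq_one]
  intro r hr
  have := (hS.1.1.1.1.1.1 r hr).2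
  rw [List.count_eq_countP]
  convert this using 2
  funext x
  simp [nbeq, eq_comm, Bool.beq_eq_decide_eq]

omit [CharP F 2] in
theorem nroots_le : P.nroots ≤ 254 := by
  simp only [Spec.ck, Bool.and_eq_true, Nat.ble_eq] at hS
  exact hS.1.2

omit [CharP F 2] in
theorem ne_lam {r : ℕ} (hr : r < P.nroots) : r ≠ 255 ∧ r ≠ 254 := by
  have := nroots_le hS
  omega

variable (hC : P.ckComm = true) [Fintype F]
include hC

theorem exists_lk {g : GL D.Idx F} (hg : g ∈ D.posUnipotent F) : ∃ u : ℕ → F, g = prd h u S.lk := by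
  obtain ⟨t, ht⟩ := h.pos_normal_form hC hg
  simp only [Spec.ck, Bool.and_eq_true] at hS
  have hev : Ev h t (nfK P S.ky (varW (posL P))) g :=
    ev_nfK h hC S.ky (ht ▸ ev_varW h t t (posL P) fun _ _ => rfl)
  have hs := eqLs_iff hS.2
  have hnd : ((nfK P S.ky (varW (posL P))).map Prod.fst).Nodup := by
    rw [hs]
    exact (lk_nodup (P := P) (by simp only [Spec.ck, Bool.and_eq_true]; exact hS)).filter _
  obtain ⟨u, hu, -⟩ := read h hev hnd
  refine ⟨fun r => bif ((nfK P S.ky (varW (posL P))).map Prod.fst).any (Nat.beq r) then u r else 0, ?_⟩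
  rw [prd_ite h, ← hs]
  exact hu

theorem uniq {t u : ℕ → F} (e : prd h t S.lk = prd h u S.lk) : ∀ r ∈ S.lk, t r = u r := by
  classical
  have hlen : S.lk.length = P.nroots / 2 := by
    simp only [Spec.ck, Bool.and_eq_true, nbeq, decide_eq_true_eq] at hS
    exact hS.1.1.1.1.2
  let ext : (Fin S.lk.length → F) → ℕ → F :=
    fun f r => if hr : r ∈ S.lk then f ⟨S.lk.idxOf r, List.idxOf_lt_length_iff.2 hr⟩ else 0
  have hmemU : ∀ f, prd h (ext f) S.lk ∈ D.posUnipotent F := fun f => Subgroup.list_prod_mem _ fun y hy => by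
    obtain ⟨r, hr, rfl⟩ := List.mem_map.1 hy
    exact h.xG_mem_pos (lk_pos hS hr).1 _
  let Φ : (Fin S.lk.length → F) → D.posUnipotent F := fun f => ⟨prd h (ext f) S.lk, hmemU f⟩
  have hres : ∀ v : ℕ → F, prd h (ext fun i => v (S.lk[(i : ℕ)])) S.lk = prd h v S.lk := fun v => by
    refine congrArg List.prod (List.map_congr_left fun r hr => ?_)
    simp [ext, hr]
  have hsurj : Function.Surjective Φ := fun g => by
    obtain ⟨v, hv⟩ := exists_lk hS hC g.2
    exact ⟨fun i => v (S.lk[(i : ℕ)]), Subtype.ext ((hres v).trans hv.symm)⟩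
  have hcard : Nat.card (Fin S.lk.length → F) = Nat.card (D.posUnipotent F) := by
    rw [h.card_pos hC, Nat.card_fun, Nat.card_eq_fintype_card, Nat.card_eq_fintype_card, Fintype.card_fin, hlen]
  have hinj := ((Nat.bijective_iff_surjective_and_card Φ).2 ⟨hsurj, hcard⟩).1
  have e2 := hinj (a₁ := fun i => t (S.lk[(i : ℕ)])) (a₂ := fun i => u (S.lk[(i : ℕ)]))
    (Subtype.ext ((hres t).trans (e.trans (hres u).symm)))
  intro r hr
  have := congrFun e2 ⟨S.lk.idxOf r, List.idxOf_lt_length_iff.2 hr⟩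
  simpa using this

omit hC [Fintype F] in
theorem map_prd (T : Grp D P h S F) (t : ℕ → F) : ∀ l : List ℕ, (∀ r ∈ l, r < P.nroots) →
    T.σ (prd h t l) = (l.map fun r => h.xG (S.rho r) (T.φ (t r))).prod
  | [], _ => by
    have e := T.map_mul 1 (one_mem _) 1 (one_mem _)
    rw [one_mul] at e
    simpa [prd] using (mul_eq_left.1 e.symm)
  | a :: l, hl => by
    have hg : ∀ (m : List ℕ), prd h t m ∈ D.group F := fun m => Subgroup.list_prod_mem _ fun y hy => by
      obtain ⟨r, -, rfl⟩ := List.mem_map.1 hy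
      exact h.mem_group_of_xG _ _
    rw [show prd h t (a :: l) = h.xG a (t a) * prd h t l by simp [prd],
      T.map_mul _ (h.mem_group_of_xG _ _) _ (hg l), T.map_x a (hl a List.mem_cons_self),
      map_prd T t l fun r hr => hl r (List.mem_cons_of_mem _ hr)]
    simp

omit [Fintype F] in
theorem map_lk (T : Grp D P h S F) (t : ℕ → F) :
    T.σ (prd h t S.lk) = prd h (fun r => T.φ (t (S.rho r))) S.lk := by
  rw [map_prd hS T t S.lk fun r hr => (lk_pos hS hr).2.1]
  set v : ℕ → F := fun r => T.φ (t r)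
  have h1 : ∀ l : List ℕ, Ev h v (l.map fun r => (S.rho r, some [[r]]))
      ((l.map fun r => h.xG (S.rho r) (T.φ (t r))).prod) := by
    intro l
    induction l with
    | nil => exact rfl
    | cons a l ih => exact ⟨v a, _, by simp [EvP, evS, evM], ih, by simp [v]⟩
  have h2 : ∀ l : List ℕ, Ev h v (l.map fun r => (r, some [[S.rho r]]))
      (prd h (fun r => T.φ (t (S.rho r))) l) := by
    intro l
    induction l with
    | nil => exact rfl
    | cons a l ih => exact ⟨v (S.rho a), _, by simp [EvP, evS, evM], ih, by simp [v, prd]⟩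
  have hck : eqW (nfK P S.ky (S.lk.map fun r => (S.rho r, some [[r]]))) (S.lk.map fun r => (r, some [[S.rho r]])) =
      true := by
    simp only [Spec.ck, Bool.and_eq_true] at hS
    exact hS.1.1.2
  exact eqW_ev h hck (ev_nfK h hC S.ky (h1 _)) (h2 _)

/-- A fixed element of the unipotent group has symmetric parameters. -/
theorem exists_sym (T : Grp D P h S F) {g : GL D.Idx F} (hg : T.σ g = g) {u : ℕ → F} (hu : g = prd h u S.lk) :
    ∃ u' : ℕ → F, T.Sym u' ∧ g = prd h u' S.lk ∧ ∀ r ∈ S.lk, u' r = u r := by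
  classical
  refine ⟨fun r => if r ∈ S.lk then u r else 0, fun r hr => ?_, ?_, fun r hr => if_pos hr⟩
  · by_cases hm : r ∈ S.lk
    · have e := uniq hS hC ((map_lk hS hC T u).symm.trans (by rw [← hu, hg])) _ (lk_pos hS hm).2.2
      simp only [(rho_spec hS hr).2.1] at e
      simp only [if_pos hm, if_pos (lk_pos hS hm).2.2, ← hu] at e ⊢
      exact e.symm
    · have hm' : S.rho r ∉ S.lk := fun hc => hm (by
        have := (lk_pos hS hc).2.2
        rwa [(rho_spec hS hr).2.1] at this)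
      simp only [if_neg hm, if_neg hm', map_zero]
  · rw [hu]
    exact congrArg List.prod (List.map_congr_left fun r hr => by simp [hr])

end Cfsg.Agent.Chev.InvolCert.Tw
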