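/-
A checker for certificates reducing the involutions of a twisted unipotent group.
-/
import Cfsg.Agent.Lib.Chev.InvolCert.Tw.Basic

set_option autoImplicit false
set_option maxHeartbeats 1000000

namespace Cfsg.Agent.Chev.InvolCert.Tw

open Cfsg.Lie Cfsg.Agent.Chev Cfsg.Agent.Chev.InvolCert

/-- The steps. -/
inductive TRule
  | one
  | leaf (k : ℕ)
  | contra (r : ℕ)
  | sq (r v ch : ℕ)
  | br (c c0 c1 : ℕ)
  | kill (g c : ℕ) (m : List ℕ) (rel : Option ℕ) (ch : ℕ)
  | killTr (g c : ℕ) (m : List ℕ) (ch : ℕ)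
  | mv (p : List ℕ) (ch : ℕ)

/-- A state with its step. -/
abbrev TNode := ℕ × ℕ × TRule

/-- The variable conjugate to `lam`. -/
def lamB : ℕ := 254

/-- The node with a given number. -/
def getT (T : List TNode) (i : ℕ) : TNode := T.getD i (0, 0, .one)

/-- The conjugating word of an orbit. -/
def cW (S : Spec) (g : ℕ) : List AL :=
  bif Nat.beq (S.rho g) g then [(g, some [[lam]])] else [(g, some [[lam]]), (S.rho g, some [[lamB]])]

/-- The conjugating word gives a fixed involution. -/
def ckCW (S : Spec) (P : Pk) (g : ℕ) : Bool :=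
  Nat.blt g P.nroots && eqW (nfK P S.ky (cW S g ++ cW S g)) [] &&
    (Nat.beq (S.rho g) g || eqW (nfK P S.ky [(S.rho g, some [[lamB]]), (g, some [[lam]])]) (nfK P S.ky (cW S g)))

/-- A monomial without the variable `lam`. -/
def offL (m : List ℕ) : List ℕ := m.filter fun x => !(Nat.beq lam x)

/-- The mapped root. -/
def mvK (S : Spec) (P : Pk) (p : List ℕ) (r : ℕ) : ℕ := p.foldl (fun s j => wl P (S.gens.getD j []) s) r

/-- The child has symmetric nonzero parameters where claimed. -/
def ckNzT (S : Spec) (okv : ℕ → Bool) (out : List AL) (N' : List ℕ) : Bool :=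
  N'.all fun r => nzP okv (coefW out r) || nzP okv (coefW out (S.rho r))

/-- The check of one node. -/
def ckT (S : Spec) (P : Pk) (leaves : List (List ℕ)) (T : List TNode) (i : ℕ) : Bool :=
  let L := bitsK S (getT T i).1
  let N := (getT T i).2.1
  let sq := nfK P S.ky (varW L ++ varW L)
  match (getT T i).2.2 with
  | .one => L.isEmpty
  | .leaf k => eqLs L (leaves.getD k []) && eqLs (bitsK S N) (leaves.getD k []) && Nat.blt k leaves.length
  | .contra r => inOrd S sq && sq.any (fun e => Nat.beq e.1 r) &&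
      nzP (fun x => inN N x && S.lk.any (Nat.beq x)) (coefW sq r)
  | .sq r v ch => Nat.blt ch i && Nat.blt v P.nroots && inOrd S sq && sq.any (fun e => Nat.beq e.1 r) &&
      nzP (fun x => Nat.beq x v || Nat.beq x (S.rho v) || (inN N x && S.lk.any (Nat.beq x))) (coefW sq r) &&
      eqLs (bitsK S (getT T ch).1) (L.filter fun x => !(Nat.beq x v || Nat.beq x (S.rho v))) &&
      (bitsK S (getT T ch).2.1).all (inN N)
  | .br c c0 c1 => Nat.blt c0 i && Nat.blt c1 i && Nat.blt c P.nroots &&
      eqLs (bitsK S (getT T c0).1) (L.filter fun x => !(Nat.beq x c || Nat.beq x (S.rho c))) &&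
      (bitsK S (getT T c0).2.1).all (inN N) &&
      eqLs (bitsK S (getT T c1).1) L &&
      (bitsK S (getT T c1).2.1).all (fun x => inN N x || Nat.beq x c || Nat.beq x (S.rho c))
  | .kill g c m rel ch =>
      let out := nfK P S.ky (cW S g ++ varW L ++ cW S g)
      let k := m.countP (Nat.beq lam)
      let M := offL m
      Nat.blt ch i && ckCW S P g && Nat.blt c P.nroots && out.any (fun e => Nat.beq e.1 c) && inOrd S out &&
      (match coefW out c with
        | some p => zeroS (p ++ [[c], m])
        | none => false) &&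
      (Nat.beq k 1 || Nat.beq k 2 || Nat.beq k 4) && M.all (fun x => inN N x && S.lk.any (Nat.beq x)) &&
      (!(Nat.beq (S.rho g) g) ||
        match rel with
        | none => Nat.beq (S.rho c) c && zeroS [mulM (M.map S.rho) [], mulM M []]
        | some r => inOrd S sq && sq.any (fun e => Nat.beq e.1 r) &&
            match coefW sq r with
            | some q => zeroS (q ++ [mulM M [S.rho c], mulM (M.map S.rho) [c]])
            | none => false) &&
      eqLs (bitsK S (getT T ch).1) ((out.map Prod.fst).filter fun x => !(Nat.beq x c || Nat.beq x (S.rho c))) &&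
      ckNzT S (fun x => ((Nat.beq x lam || Nat.beq x lamB) && inN N c && S.lk.any (Nat.beq c)) ||
        (inN N x && S.lk.any (Nat.beq x))) out (bitsK S (getT T ch).2.1)
  | .killTr g c m ch =>
      let out := nfK P S.ky (cW S g ++ varW L ++ cW S g)
      let M := offL m
      Nat.blt ch i && ckCW S P g && Nat.blt c P.nroots && out.any (fun e => Nat.beq e.1 c) && inOrd S out &&
      !(Nat.beq (S.rho g) g) && Nat.beq (S.rho c) c &&
      (match coefW out c with
        | some p => zeroS (p ++ [[c], m, mulM (M.map S.rho) [lamB]])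
        | none => false) &&
      Nat.beq (m.countP (Nat.beq lam)) 1 && M.all (fun x => inN N x && S.lk.any (Nat.beq x)) &&
      eqLs (bitsK S (getT T ch).1) ((out.map Prod.fst).filter fun x => !(Nat.beq x c || Nat.beq x (S.rho c))) &&
      ckNzT S (fun x => ((Nat.beq x lam || Nat.beq x lamB) && inN N c && S.lk.any (Nat.beq c)) ||
        (inN N x && S.lk.any (Nat.beq x))) out (bitsK S (getT T ch).2.1)
  | .mv p ch =>
      let out := nfK P S.ky (L.map fun r => (mvK S P p r, some [[r]]))
      Nat.blt ch i && p.all (fun j => Nat.blt j S.gens.length && (S.gens.getD j []).all fun x => Nat.blt x P.rank) &&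
      inOrd S out && eqLs (bitsK S (getT T ch).1) (out.map Prod.fst) &&
      ckNzT S (fun x => inN N x && S.lk.any (Nat.beq x)) out (bitsK S (getT T ch).2.1)

variable {D : ChevalleyDatum} {P : Pk} {h : Ok D P} {S : Spec} {F : Type*} [Field F] [CharP F 2] [Fintype F]
  (hS : S.ck P = true) (hC : P.ckComm = true) (T : Grp D P h S F)
include hS hC

omit hC [Fintype F] [CharP F 2] in
theorem mem_lk {r : ℕ} (hr : S.lk.any (Nat.beq r) = true) : r ∈ S.lk ∧ r < P.nroots := by
  rw [List.any_eq_true] at hr
  obtain ⟨x, hx, e⟩ := hr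
  simp only [nbeq, decide_eq_true_eq] at e
  subst e
  exact ⟨hx, (lk_pos hS hx).2.1⟩

/-- The symmetric parameters of a collected fixed element. -/
theorem read_sym {v : ℕ → F} {w : List AL} {g : GL D.Idx F} (hord : inOrd S w = true) (hev : Ev h v w g)
    (hg : T.σ g = g) :
    ∃ u : ℕ → F, T.Sym u ∧ g = prd h u (w.map Prod.fst) ∧ (∀ e ∈ w, EvP v e.2 (u e.1)) ∧
      ∀ r ∈ S.lk, r ∉ w.map Prod.fst → u r = 0 := by
  have hs := eqLs_iff hord
  obtain ⟨t, ht, hte⟩ := read h hev (hs ▸ (lk_nodup hS).filter _)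
  set p : ℕ → Bool := fun r => (w.map Prod.fst).any (Nat.beq r) with hp
  have hfull : g = prd h (fun r => bif p r then t r else 0) S.lk := by
    rw [prd_ite h, ht]
    exact congrArg (prd h t) hs
  obtain ⟨u, hu, hgu, hval⟩ := exists_sym hS hC T hg hfull
  have hin : ∀ r ∈ w.map Prod.fst, r ∈ S.lk ∧ p r = true := fun r hr => by
    rw [hs, List.mem_filter] at hr; exact hr
  refine ⟨u, hu, ?_, fun e he => ?_, fun r hr hn => ?_⟩
  · rw [ht]
    exact congrArg List.prod (List.map_congr_left fun r hr => by rw [hval r (hin r hr).1, (hin r hr).2]; rfl)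
  · obtain ⟨h1, h2⟩ := hin _ (List.mem_map_of_mem he)
    rw [hval _ h1, h2]
    exact hte e he
  · rw [hval r hr]
    cases hpr : p r
    · rfl
    · exfalso
      refine hn ?_
      rw [hs, List.mem_filter]
      exact ⟨hr, hpr⟩

omit hC [Fintype F] in
theorem prd_drop2 (t : ℕ → F) {c : ℕ} (hc : t c = 0) (hc' : t (S.rho c) = 0) :
    ∀ l, prd h t (l.filter fun x => !(Nat.beq x c || Nat.beq x (S.rho c))) = prd h t l
  | [] => rfl
  | a :: l => by
    have ih := prd_drop2 t hc hc' l
    by_cases e : a = c ∨ a = S.rho c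
    · rw [List.filter_cons_of_neg (by rcases e with e | e <;> simp [nbeq, e]), ih]
      rcases e with rfl | rfl <;> simp [prd, hc, hc', h.xG_zero]
    · rw [not_or] at e
      rw [List.filter_cons_of_pos (by simp [nbeq, e.1, e.2])]
      simp only [prd, List.map_cons, List.prod_cons] at ih ⊢
      rw [ih]

/-- The parameters for the conjugating word. -/
noncomputable def lamV (t : ℕ → F) (l : F) : ℕ → F := Function.update (Function.update t lam l) lamB (T.φ l)

omit hS hC [Fintype F] in
theorem lamV_spec (t : ℕ → F) (l : F) :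
    lamV T t l lam = l ∧ lamV T t l lamB = T.φ l ∧ ∀ x, x ≠ lam → x ≠ lamB → lamV T t l x = t x := by
  refine ⟨?_, Function.update_self .., fun x h1 h2 => ?_⟩
  · rw [lamV, Function.update_of_ne (by decide), Function.update_self]
  · rw [lamV, Function.update_of_ne h2, Function.update_of_ne h1]

/-- The conjugating element of an orbit. -/
theorem exists_conj {g : ℕ} (hg : ckCW S P g = true) (t : ℕ → F) (l : F) (hl : S.rho g = g → T.φ l = l) :
    ∃ W ∈ T.K, W * W = 1 ∧ Ev h (lamV T t l) (cW S g) W := by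
  simp only [ckCW, Bool.and_eq_true, Bool.or_eq_true, Nat.blt_eq, nbeq, decide_eq_true_eq] at hg
  obtain ⟨⟨hgn, hsq⟩, hcom⟩ := hg
  obtain ⟨h1, h2, -⟩ := lamV_spec T t l
  have one : ∀ (a x : ℕ) (y : F), lamV T t l x = y → Ev h (lamV T t l) [(a, some [[x]])] (h.xG a y) := fun a x y e =>
    ⟨y, 1, by simp [EvP, evS, evM, e], rfl, (mul_one _).symm⟩
  have hsq' : ∀ W, Ev h (lamV T t l) (cW S g) W → W * W = 1 := fun W hW =>
    eqW_ev h hsq (ev_nfK h hC S.ky (ev_append h hW hW)) (show Ev h (lamV T t l) [] 1 from rfl)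
  by_cases e : S.rho g = g
  · have hev : Ev h (lamV T t l) (cW S g) (h.xG g l) := by
      rw [cW, nbeq, decide_eq_true e]; exact one g lam l h1
    refine ⟨h.xG g l, T.mem _ (h.mem_group_of_xG _ _) ?_, hsq' _ hev, hev⟩
    rw [T.map_x g hgn, e, hl e]
  · have hev : Ev h (lamV T t l) (cW S g) (h.xG g l * h.xG (S.rho g) (T.φ l)) := by
      rw [cW, nbeq, decide_eq_false e]; exact ev_append h (one g lam l h1) (one _ lamB _ h2)
    refine ⟨_, T.mem _ (mul_mem (h.mem_group_of_xG _ _) (h.mem_group_of_xG _ _)) ?_, hsq' _ hev, hev⟩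
    obtain ⟨r1, r2, -⟩ := rho_spec hS hgn
    rw [T.map_mul _ (h.mem_group_of_xG _ _) _ (h.mem_group_of_xG _ _), T.map_x g hgn, T.map_x _ r1, r2, T.phi2]
    exact eqW_ev h (hcom.resolve_left e) (ev_nfK h hC S.ky (ev_append h (one _ lamB _ h2) (one g lam l h1)))
      (ev_nfK h hC S.ky hev)

omit hC [Fintype F] in
theorem evM_map {t : ℕ → F} (ht : T.Sym t) :
    ∀ M : List ℕ, (∀ x ∈ M, x < P.nroots) → evM t (M.map S.rho) = T.φ (evM t M)
  | [], _ => by simp [evM]
  | a :: M, hM => by
    have ih := evM_map ht M fun x hx => hM x (List.mem_cons_of_mem _ hx)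
    simp only [evM, List.map_cons, List.prod_cons, map_mul] at ih ⊢
    rw [ih, ht a (hM a List.mem_cons_self)]

omit hS hC in
theorem pow_inj {k : ℕ} (hk : k = 1 ∨ k = 2 ∨ k = 4) {a b : F} (e : a ^ k = b ^ k) : a = b := by
  rcases hk with rfl | rfl | rfl
  · simpa using e
  · exact CharTwo.sq_injective e
  · exact CharTwo.sq_injective (CharTwo.sq_injective (show (a ^ 2) ^ 2 = (b ^ 2) ^ 2 by rw [← pow_mul, ← pow_mul]; exact e))

/-- Conjugation by a product of generators. -/
theorem exists_mv (t : ℕ → F) (l : List ℕ) (hl : ∀ r ∈ l, r < P.nroots) (p : List ℕ)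
    (hp : ∀ j ∈ p, j < S.gens.length ∧ ∀ x ∈ S.gens.getD j [], x < P.rank) :
    ∃ x ∈ T.K, x * prd h t l * x⁻¹ = (l.map fun r => h.xG (mvK S P p r) (t r)).prod ∧
      ∀ r ∈ l, mvK S P p r < P.nroots := by
  induction p using List.reverseRecOn with
  | nil => exact ⟨1, one_mem _, by simp [prd, mvK], hl⟩
  | append_singleton p j ih =>
    obtain ⟨x, hx, e, hlt⟩ := ih fun i hi => hp i (List.mem_append_left _ hi)
    obtain ⟨hj, hw⟩ := hp j (List.mem_append_right _ (List.mem_singleton_self j))
    have hg : S.gens.getD j [] ∈ S.gens := by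
      rw [List.getD_eq_getElem _ _ hj]; exact List.getElem_mem hj
    have hmv : ∀ r, mvK S P (p ++ [j]) r = wl P (S.gens.getD j []) (mvK S P p r) := fun r => by
      simp [mvK, List.foldl_append]
    refine ⟨h.nW (S.gens.getD j []) * x, mul_mem (T.gens _ hg) hx, ?_,
      fun r hr => hmv r ▸ h.wl_lt _ hw _ (hlt r hr)⟩
    rw [show h.nW (S.gens.getD j []) * x * prd h t l * (h.nW (S.gens.getD j []) * x)⁻¹ =
        h.nW (S.gens.getD j []) * (x * prd h t l * x⁻¹) * (h.nW (S.gens.getD j []))⁻¹ by group, e,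
      ← MulAut.conj_apply, ← MulEquiv.coe_toMonoidHom, map_list_prod, List.map_map]
    refine congrArg List.prod (List.map_congr_left fun r hr => ?_)
    rw [Function.comp_apply, MulEquiv.coe_toMonoidHom, MulAut.conj_apply, hmv]
    obtain ⟨s, hs, hx'⟩ := h.nW_xG (F := F) _ hw (mvK S P p r) (hlt r hr)
    rw [(hx' (t r)).1, show s = 1 from CharTwo.sq_injective (show s ^ 2 = 1 ^ 2 by rw [one_pow, sq, hs]), one_mul]

/-- What a certificate proves about a node. -/
def GoodT (C : GL D.Idx F → Prop) (L N : ℕ) : Prop :=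
  ∀ t : ℕ → F, T.Sym t → (∀ r ∈ bitsK S N, t r ≠ 0) →
    T.σ (prd h t (bitsK S L)) = prd h t (bitsK S L) →
    prd h t (bitsK S L) * prd h t (bitsK S L) = 1 → C (prd h t (bitsK S L))

variable {C : GL D.Idx F → Prop} (hconj : ∀ x ∈ T.K, ∀ g, C (x * g * x⁻¹) → C g) (hone : C 1)
  {leaves : List (List ℕ)}
  (hleaf : ∀ k < leaves.length, ∀ t : ℕ → F, T.Sym t → (∀ r ∈ leaves.getD k [], t r ≠ 0) →
    C (prd h t (leaves.getD k [])))
include hconj hone hleaf

theorem soundT (tb : List TNode) (n : ℕ) (hck : ∀ i < n, ckT S P leaves tb i = true) :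
    ∀ i < n, GoodT T C (getT tb i).1 (getT tb i).2.1 := by
  intro i
  induction i using Nat.strong_induction_on with
  | _ i ih =>
  intro hi t hsym htN hfix hsq
  have hc := hck i hi
  simp only [ckT] at hc
  set L := bitsK S (getT tb i).1 with hLdef
  set N := (getT tb i).2.1
  have hmemL : ∀ r ∈ L, r ∈ S.lk ∧ r < P.nroots := fun r hr =>
    ⟨(List.mem_filter.1 hr).1, (lk_pos hS (List.mem_filter.1 hr).1).2.1⟩
  have hN : ∀ x, inN N x = true → S.lk.any (Nat.beq x) = true → t x ≠ 0 := fun x h1 h2 =>
    htN x (List.mem_filter.2 ⟨(mem_lk hS h2).1, h1⟩)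
  have hgroup : prd h t L ∈ D.group F := Subgroup.list_prod_mem _ fun y hy => by
    obtain ⟨r, -, rfl⟩ := List.mem_map.1 hy
    exact h.mem_group_of_xG _ _
  have hKg : prd h t L ∈ T.K := T.mem _ hgroup hfix
  have hsqw : inOrd S (nfK P S.ky (varW L ++ varW L)) = true →
      ∀ e ∈ nfK P S.ky (varW L ++ varW L), EvP t e.2 (0 : F) := by
    intro hs e he
    have hev : Ev h t (nfK P S.ky (varW L ++ varW L)) (prd h t L * prd h t L) :=
      ev_nfK h hC S.ky (ev_append h (ev_varW h t t _ fun _ _ => rfl) (ev_varW h t t _ fun _ _ => rfl))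
    obtain ⟨u, -, hu, hv, hout⟩ := read_sym hS hC T hs hev (T.fixed _ (mul_mem hKg hKg))
    have hz : prd h u S.lk = prd h (fun _ => 0) S.lk := by
      rw [show prd h (fun _ => (0 : F)) S.lk = 1 from List.prod_eq_one fun x hx => by
        obtain ⟨r, -, rfl⟩ := List.mem_map.1 hx
        exact h.xG_zero r]
      rw [← hsq, hu]
      have e2 := prd_ite h u (fun r => ((nfK P S.ky (varW L ++ varW L)).map Prod.fst).any (Nat.beq r)) S.lk
      rw [← eqLs_iff hs] at e2
      rw [← e2]
      refine congrArg List.prod (List.map_congr_left fun r hr => ?_)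
      cases hm : ((nfK P S.ky (varW L ++ varW L)).map Prod.fst).any (Nat.beq r)
      · rw [hout r hr fun hc => by
          rw [List.any_eq_false] at hm
          exact hm r hc (by simp [nbeq]), h.xG_zero]
        simp only [hm, cond_false, h.xG_zero]
      · simp only [hm, cond_true]
    have hmem : e.1 ∈ S.lk := by
      have h1 := List.mem_map_of_mem (f := Prod.fst) he
      rw [eqLs_iff hs, List.mem_filter] at h1
      exact h1.1
    have := hv e he
    rwa [uniq hS hC hz _ hmem] at this
  have hchild : ∀ (ch : ℕ), ch < i → ∀ (g' : GL D.Idx F), g' ∈ T.K → g' * g' = 1 →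
      ∀ u : ℕ → F, T.Sym u → (∀ r ∈ bitsK S (getT tb ch).2.1, u r ≠ 0) →
      g' = prd h u (bitsK S (getT tb ch).1) → C g' := by
    intro ch hch g' hg' hg2 u hu hnz e
    subst e
    exact ih ch hch (hch.trans hi) u hu hnz (T.fixed _ hg') hg2
  have hkill : ∀ (g c ch : ℕ) (l : F), ch < i → ckCW S P g = true → c < P.nroots →
      (S.rho g = g → T.φ l = l) →
      inOrd S (nfK P S.ky (cW S g ++ varW L ++ cW S g)) = true →
      (nfK P S.ky (cW S g ++ varW L ++ cW S g)).any (fun e => Nat.beq e.1 c) = true →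
      (∀ x : F, EvP (lamV T t l) (coefW (nfK P S.ky (cW S g ++ varW L ++ cW S g)) c) x → x = 0) →
      eqLs (bitsK S (getT tb ch).1) (((nfK P S.ky (cW S g ++ varW L ++ cW S g)).map Prod.fst).filter
        fun x => !(Nat.beq x c || Nat.beq x (S.rho c))) = true →
      (inN N c = true → S.lk.any (Nat.beq c) = true → l ≠ 0) →
      ckNzT S (fun x => ((Nat.beq x lam || Nat.beq x lamB) && inN N c && S.lk.any (Nat.beq c)) ||
        (inN N x && S.lk.any (Nat.beq x))) (nfK P S.ky (cW S g ++ varW L ++ cW S g))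
        (bitsK S (getT tb ch).2.1) = true → C (prd h t L) := by
    intro g c ch l hch hg hcn hl hord hmem hval hL' hl0 hnz
    obtain ⟨W, hW, hWW, hWev⟩ := exists_conj hS hC T hg t l hl
    obtain ⟨v1, v2, v3⟩ := lamV_spec T t l
    have hlam : ∀ x, x < P.nroots → x ∈ S.lk → x ≠ lam ∧ x ≠ lamB := fun x hx _ => ne_lam hS hx
    have hev : Ev h (lamV T t l) (nfK P S.ky (cW S g ++ varW L ++ cW S g)) (W * prd h t L * W) :=
      ev_nfK h hC S.ky (ev_append h (ev_append h hWev (ev_varW h t _ _ fun r hr =>
        v3 r (hlam r (hmemL r hr).2 (hmemL r hr).1).1 (hlam r (hmemL r hr).2 (hmemL r hr).1).2)) hWev)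
    have hK' : W * prd h t L * W ∈ T.K := mul_mem (mul_mem hW hKg) hW
    obtain ⟨u, hu, hue, hv, -⟩ := read_sym hS hC T hord hev (T.fixed _ hK')
    have huc : u c = 0 := hval _ (hv _ (coefW_mem hmem))
    have huc' : u (S.rho c) = 0 := by rw [hu c hcn, huc, map_zero]
    refine hconj W hW _ ?_
    rw [show W⁻¹ = W from inv_eq_of_mul_eq_one_right hWW]
    refine hchild ch hch _ hK' ?_ u hu (fun r hr => ?_) ?_
    · calc W * prd h t L * W * (W * prd h t L * W) = W * prd h t L * (W * W) * prd h t L * W := by group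
        _ = W * (prd h t L * prd h t L) * W := by rw [hWW]; group
        _ = 1 := by rw [hsq, mul_one, hWW]
    · have h1 := List.all_eq_true.1 hnz r hr
      simp only [Bool.or_eq_true] at h1
      have hok : ∀ a, (((Nat.beq a lam || Nat.beq a lamB) && inN N c && S.lk.any (Nat.beq c)) ||
          (inN N a && S.lk.any (Nat.beq a))) = true → lamV T t l a ≠ 0 := by
        intro a ha
        simp only [Bool.or_eq_true, Bool.and_eq_true, nbeq, decide_eq_true_eq] at ha
        rcases ha with ⟨⟨e, h1⟩, h2⟩ | ⟨h1, h2⟩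
        · rcases e with rfl | rfl
          · rw [v1]; exact hl0 h1 h2
          · rw [v2]; exact (map_ne_zero T.φ).2 (hl0 h1 h2)
        · rw [v3 a (hlam a (mem_lk hS h2).2 (mem_lk hS h2).1).1 (hlam a (mem_lk hS h2).2 (mem_lk hS h2).1).2]
          exact hN a h1 h2
      have hr' : r < P.nroots := (lk_pos hS (List.mem_filter.1 hr).1).2.1
      have key : ∀ s, nzP (fun x => ((Nat.beq x lam || Nat.beq x lamB) && inN N c && S.lk.any (Nat.beq c)) ||
          (inN N x && S.lk.any (Nat.beq x))) (coefW (nfK P S.ky (cW S g ++ varW L ++ cW S g)) s) = true →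
          u s ≠ 0 := by
        intro s hs'
        have h2 : (nfK P S.ky (cW S g ++ varW L ++ cW S g)).any (fun e => Nat.beq e.1 s) = true := by
          by_contra hn
          have hf : ((nfK P S.ky (cW S g ++ varW L ++ cW S g)).find? fun e => Nat.beq e.1 s) = none :=
            List.find?_eq_none.2 fun e he hh => hn (List.any_eq_true.2 ⟨e, he, hh⟩)
          rw [coefW, hf] at hs'
          simp [nzP] at hs'
        exact nz_ne hs' hok (hv _ (coefW_mem h2))
      rcases h1 with h1 | h1
      · exact key r h1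
      · intro h0
        exact key _ h1 (by rw [hu r hr', h0, map_zero])
    · rw [hue, eqLs_iff hL', prd_drop2 hS u huc huc']
  split at hc
  · rw [List.isEmpty_iff] at hc
    rw [hc]
    exact hone
  · rename_i k hr
    simp only [Bool.and_eq_true, Nat.blt_eq] at hc
    obtain ⟨⟨h1, h2⟩, h3⟩ := hc
    rw [eqLs_iff h1]
    exact hleaf k h3 t hsym fun r hr => htN r ((eqLs_iff h2).symm ▸ hr)
  · rename_i r hr
    simp only [Bool.and_eq_true] at hc
    obtain ⟨⟨h1, h2⟩, h3⟩ := hc
    refine absurd rfl (nz_ne h3 (fun a ha => ?_) (hsqw h1 _ (coefW_mem h2)))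
    simp only [Bool.and_eq_true] at ha
    exact hN a ha.1 ha.2
  · rename_i r v ch hr
    simp only [Bool.and_eq_true, Nat.blt_eq] at hc
    obtain ⟨⟨⟨⟨⟨⟨hch, hvn⟩, h1⟩, h2⟩, h3⟩, h4⟩, h5⟩ := hc
    have hv : t v = 0 := by
      by_contra hv
      refine nz_ne h3 (fun a ha => ?_) (hsqw h1 _ (coefW_mem h2)) rfl
      simp only [Bool.or_eq_true, Bool.and_eq_true, nbeq, decide_eq_true_eq] at ha
      rcases ha with (rfl | rfl) | ha
      · exact hv
      · rw [hsym v hvn]; exact (map_ne_zero T.φ).2 hv
      · exact hN a ha.1 ha.2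
    have e := prd_drop2 hS t hv (by rw [hsym v hvn, hv, map_zero]) L (h := h)
    rw [← eqLs_iff h4] at e
    exact hchild ch hch _ hKg hsq t hsym
      (fun x hx => htN x (List.mem_filter.2 ⟨(List.mem_filter.1 hx).1, List.all_eq_true.1 h5 x hx⟩)) e.symm
  · rename_i c c0 c1 hr
    simp only [Bool.and_eq_true, Nat.blt_eq] at hc
    obtain ⟨⟨⟨⟨⟨⟨h0, h1⟩, hcr⟩, hL0⟩, hN0⟩, hL1⟩, hN1⟩ := hc
    by_cases hz : t c = 0
    · have e := prd_drop2 hS t hz (by rw [hsym c hcr, hz, map_zero]) L (h := h)
      rw [← eqLs_iff hL0] at e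
      exact hchild c0 h0 _ hKg hsq t hsym
        (fun x hx => htN x (List.mem_filter.2 ⟨(List.mem_filter.1 hx).1, List.all_eq_true.1 hN0 x hx⟩)) e.symm
    · refine hchild c1 h1 _ hKg hsq t hsym (fun x hx => ?_) (by rw [eqLs_iff hL1])
      have := List.all_eq_true.1 hN1 x hx
      simp only [Bool.or_eq_true, nbeq, decide_eq_true_eq] at this
      rcases this with (h' | rfl) | rfl
      · exact htN x (List.mem_filter.2 ⟨(List.mem_filter.1 hx).1, h'⟩)
      · exact hz
      · rw [hsym c hcr]; exact (map_ne_zero T.φ).2 hz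
  · rename_i g c m rel ch hr
    simp only [Bool.and_eq_true, Nat.blt_eq] at hc
    obtain ⟨⟨⟨⟨⟨⟨⟨⟨⟨⟨hch, hg⟩, hcc⟩, hmem⟩, hord⟩, hco⟩, hk⟩, hall⟩, hfixc⟩, hL'⟩, hnz⟩ := hc
    obtain ⟨p, hp⟩ : ∃ p, coefW (nfK P S.ky (cW S g ++ varW L ++ cW S g)) c = some p := by
      split at hco
      · exact ⟨_, by assumption⟩
      · exact Bool.noConfusion hco
    rw [hp] at hco
    simp only [List.all_eq_true, Bool.and_eq_true] at hall
    have hMlt : ∀ x ∈ offL m, x < P.nroots := fun x hx => (mem_lk hS (hall x hx).2).2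
    set k := m.countP (Nat.beq lam) with hkdef
    have hk' : k = 1 ∨ k = 2 ∨ k = 4 := by simpa [nbeq, or_assoc] using hk
    set M := evM t (offL m) with hMdef
    have hM : M ≠ 0 := by
      refine List.prod_ne_zero fun h0 => ?_
      obtain ⟨a, ha, e⟩ := List.mem_map.1 h0
      exact hN a (hall a ha).1 (hall a ha).2 e
    obtain ⟨l, hl⟩ := exists_root (F := F) (k := k) hk' (t c * M⁻¹)
    obtain ⟨v1, v2, v3⟩ := lamV_spec T t l
    have hlam : ∀ x, S.lk.any (Nat.beq x) = true → x ≠ lam ∧ x ≠ lamB := fun x hm => ne_lam hS (mem_lk hS hm).2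
    refine hkill g c ch l hch hg hcc (fun e => ?_) hord hmem (fun x hx => ?_) hL' (fun h1 h2 h0 => ?_) hnz
    · rw [nbeq, decide_eq_true e] at hfixc
      simp only [Bool.not_true, Bool.false_or] at hfixc
      have hz : T.φ (t c) * M = t c * T.φ M := by
        cases rel with
        | none =>
          simp only [Bool.and_eq_true, nbeq, decide_eq_true_eq] at hfixc
          have h1 := zeroS_ev (v := t) hfixc.2
          simp only [evS, List.map_cons, List.map_nil, List.sum_cons, List.sum_nil, add_zero] at h1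
          rw [CharTwo.add_eq_zero, evM_mulM, evM_mulM, evM_map hS T hsym _ hMlt] at h1
          simp only [evM, List.map_nil, List.prod_nil, mul_one] at h1
          rw [← hsym c hcc, hfixc.1]
          exact congrArg (t c * ·) h1.symm
        | some r =>
          simp only [Bool.and_eq_true] at hfixc
          obtain ⟨⟨ho, hany⟩, hq⟩ := hfixc
          obtain ⟨q, hq'⟩ : ∃ q, coefW (nfK P S.ky (varW L ++ varW L)) r = some q := by
            split at hq
            · exact ⟨_, by assumption⟩
            · exact Bool.noConfusion hq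
          rw [hq'] at hq
          have h0 := hsqw ho _ (coefW_mem hany)
          rw [hq'] at h0
          have h1 := zeroS_ev (v := t) hq
          simp only [EvP] at h0
          simp only [evS, List.map_append, List.sum_append, List.map_cons, List.map_nil, List.sum_cons,
            List.sum_nil, add_zero] at h0 h1
          rw [← h0, zero_add, CharTwo.add_eq_zero, evM_mulM, evM_mulM, evM_map hS T hsym _ hMlt] at h1
          simp only [evM, List.map_cons, List.map_nil, List.prod_cons, List.prod_nil, mul_one] at h1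
          rw [← hsym c hcc, mul_comm, mul_comm (t c)]
          exact h1
      refine pow_inj hk' ?_
      rw [← map_pow, hl, map_mul, map_inv₀, ← div_eq_mul_inv, ← div_eq_mul_inv,
        div_eq_div_iff ((map_ne_zero T.φ).2 hM) hM, hz]
    · rw [hp] at hx
      rw [show x = evS (lamV T t l) p from hx]
      have h1 := zeroS_ev (v := lamV T t l) hco
      simp only [evS, List.map_append, List.sum_append, List.map_cons, List.map_nil, List.sum_cons, List.sum_nil,
        add_zero] at h1 ⊢
      have hm : evM (lamV T t l) m = t c := by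
        rw [evM_split _ lam m, v1, ← hkdef, hl]
        have : evM (lamV T t l) (offL m) = M := by
          refine congrArg List.prod (List.map_congr_left fun a ha => ?_)
          exact v3 a (hlam a (hall a ha).2).1 (hlam a (hall a ha).2).2
        rw [show (m.filter fun x => !(Nat.beq lam x)) = offL m from rfl, this, inv_mul_cancel_right₀ hM]
      have hc1 : evM (lamV T t l) [c] = t c := by
        simp only [evM, List.map_cons, List.map_nil, List.prod_cons, List.prod_nil, mul_one]
        exact v3 c (ne_lam hS hcc).1 (ne_lam hS hcc).2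
      rwa [hm, hc1, CharTwo.add_self_eq_zero, add_zero] at h1
    · rw [h0, zero_pow (by omega)] at hl
      exact hN c h1 h2 ((mul_eq_zero.1 hl.symm).resolve_right (inv_ne_zero hM))
  · rename_i g c m ch hr
    simp only [Bool.and_eq_true, Nat.blt_eq, Bool.not_eq_true'] at hc
    obtain ⟨⟨⟨⟨⟨⟨⟨⟨⟨⟨⟨hch, hg⟩, hcc⟩, hmem⟩, hord⟩, hgg⟩, hcf⟩, hco⟩, hk⟩, hall⟩, hL'⟩, hnz⟩ := hc
    simp only [nbeq, decide_eq_false_iff_not] at hgg
    simp only [nbeq, decide_eq_true_eq] at hcf hk
    obtain ⟨p, hp⟩ : ∃ p, coefW (nfK P S.ky (cW S g ++ varW L ++ cW S g)) c = some p := by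
      split at hco
      · exact ⟨_, by assumption⟩
      · exact Bool.noConfusion hco
    rw [hp] at hco
    simp only [List.all_eq_true, Bool.and_eq_true] at hall
    have hMlt : ∀ x ∈ offL m, x < P.nroots := fun x hx => (mem_lk hS (hall x hx).2).2
    set M := evM t (offL m) with hMdef
    have hM : M ≠ 0 := by
      refine List.prod_ne_zero fun h0 => ?_
      obtain ⟨a, ha, e⟩ := List.mem_map.1 h0
      exact hN a (hall a ha).1 (hall a ha).2 e
    obtain ⟨w, hw⟩ := T.moved
    set s := w + T.φ w with hsdef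
    have hs0 : s ≠ 0 := fun e => hw ((CharTwo.add_eq_zero.1 e).symm)
    have hsf : T.φ s = s := by rw [hsdef, map_add, T.phi2, add_comm]
    set y := t c * w / s with hy
    have hyy : y + T.φ y = t c := by
      rw [hy, map_div₀, map_mul, hsf, ← hsym c hcc, hcf, ← add_div, ← mul_add, ← hsdef, mul_div_assoc,
        div_self hs0, mul_one]
    set l := y / M with hldef
    obtain ⟨v1, v2, v3⟩ := lamV_spec T t l
    have hlam : ∀ x, x ∈ S.lk → x ≠ lam ∧ x ≠ lamB := fun x hm => ne_lam hS (lk_pos hS hm).2.1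
    refine hkill g c ch l hch hg hcc (fun e => absurd e hgg) hord hmem (fun x hx => ?_) hL' (fun h1 h2 h0 => ?_) hnz
    · rw [hp] at hx
      rw [show x = evS (lamV T t l) p from hx]
      have h1 := zeroS_ev (v := lamV T t l) hco
      simp only [evS, List.map_append, List.sum_append, List.map_cons, List.map_nil, List.sum_cons, List.sum_nil,
        add_zero] at h1 ⊢
      have hoff : evM (lamV T t l) (offL m) = M :=
        congrArg List.prod (List.map_congr_left fun a ha =>
          v3 a (hlam a (mem_lk hS (hall a ha).2).1).1 (hlam a (mem_lk hS (hall a ha).2).1).2)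
      have hm : evM (lamV T t l) m = y := by
        rw [evM_split _ lam m, v1, hk, pow_one, show (m.filter fun x => !(Nat.beq lam x)) = offL m from rfl, hoff,
          hldef, div_mul_cancel₀ y hM]
      have hm2 : evM (lamV T t l) (mulM ((offL m).map S.rho) [lamB]) = T.φ y := by
        have h2 : evM (lamV T t l) ((offL m).map S.rho) = evM t ((offL m).map S.rho) :=
          congrArg List.prod (List.map_congr_left fun a ha => by
            obtain ⟨b, hb, rfl⟩ := List.mem_map.1 ha
            have := (lk_pos hS (mem_lk hS (hall b hb).2).1).2.2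
            exact v3 _ (hlam _ this).1 (hlam _ this).2)
        rw [evM_mulM, h2, evM_map hS T hsym _ hMlt]
        simp only [evM, List.map_cons, List.map_nil, List.prod_cons, List.prod_nil, mul_one, v2]
        rw [← map_mul, hldef]
        congr 1
        exact mul_div_cancel₀ y hM
      have hc1 : evM (lamV T t l) [c] = t c := by
        simp only [evM, List.map_cons, List.map_nil, List.prod_cons, List.prod_nil, mul_one]
        exact v3 c (ne_lam hS hcc).1 (ne_lam hS hcc).2
      rwa [hm, hm2, hc1, hyy, CharTwo.add_self_eq_zero, add_zero] at h1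
    · rw [hldef, hy] at h0
      refine hN c h1 h2 ?_
      rcases div_eq_zero_iff.1 h0 with h0 | h0
      · rcases div_eq_zero_iff.1 h0 with h0 | h0
        · rcases mul_eq_zero.1 h0 with h0 | h0
          · exact h0
          · exact absurd (by rw [hsdef, h0, map_zero, add_zero]) hs0
        · exact absurd h0 hs0
      · exact absurd h0 hM
  · rename_i p ch hr
    simp only [Bool.and_eq_true, Nat.blt_eq, List.all_eq_true] at hc
    obtain ⟨⟨⟨⟨hch, hp⟩, hord⟩, hL'⟩, hnz⟩ := hc
    obtain ⟨x, hx, e, hlt⟩ := exists_mv hS hC T t L (fun r hr => (hmemL r hr).2) p hp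
    have hev0 : Ev h t (L.map fun r => (mvK S P p r, some [[r]])) (x * prd h t L * x⁻¹) := by
      rw [e]
      clear_value L
      clear hLdef hmemL hgroup hKg hsqw hkill hfix hsq e hord hL' hnz hlt
      induction L with
      | nil => simp [Ev]
      | cons a l ihl => exact ⟨t a, _, by simp [EvP, evS, evM], ihl, by simp⟩
    have hK' : x * prd h t L * x⁻¹ ∈ T.K := mul_mem (mul_mem hx hKg) (inv_mem hx)
    obtain ⟨u, hu, hue, hv, -⟩ := read_sym hS hC T hord (ev_nfK h hC S.ky hev0) (T.fixed _ hK')
    refine hconj x hx _ (hchild ch hch _ hK' ?_ u hu (fun r hr => ?_) (by rw [hue, eqLs_iff hL']))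
    · rw [show x * prd h t L * x⁻¹ * (x * prd h t L * x⁻¹) = x * (prd h t L * prd h t L) * x⁻¹ by group, hsq,
        mul_one, mul_inv_cancel]
    · have h1 := List.all_eq_true.1 hnz r hr
      simp only [Bool.or_eq_true] at h1
      have key : ∀ s, nzP (fun x => inN N x && S.lk.any (Nat.beq x))
          (coefW (nfK P S.ky (L.map fun r => (mvK S P p r, some [[r]]))) s) = true → u s ≠ 0 := by
        intro s hs'
        have h2 : (nfK P S.ky (L.map fun r => (mvK S P p r, some [[r]]))).any (fun e => Nat.beq e.1 s) = true := by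
          by_contra hn
          have hf : ((nfK P S.ky (L.map fun r => (mvK S P p r, some [[r]]))).find? fun e => Nat.beq e.1 s) =
              none := List.find?_eq_none.2 fun e he hh => hn (List.any_eq_true.2 ⟨e, he, hh⟩)
          rw [coefW, hf] at hs'
          simp [nzP] at hs'
        exact nz_ne hs' (fun a ha => by simp only [Bool.and_eq_true] at ha; exact hN a ha.1 ha.2)
          (hv _ (coefW_mem h2))
      rcases h1 with h1 | h1
      · exact key r h1
      · intro h0
        exact key _ h1 (by rw [hu r (lk_pos hS (List.mem_filter.1 hr).1).2.1, h0, map_zero])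

end Cfsg.Agent.Chev.InvolCert.Tw
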