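/-
The classes of involutions of a twisted group from a certificate.
-/
import Cfsg.Agent.Lib.Chev.InvolCert.Tw.Node
import Cfsg.Agent.Lib.Chev.InvolCert.Final

set_option autoImplicit false
set_option maxHeartbeats 1000000

namespace Cfsg.Agent.Chev.InvolCert.Tw

open Cfsg.Lie Cfsg.Agent.Chev Cfsg.Agent.Chev.InvolCert

/-- The conjugating word of an orbit at one. -/
def cW1 (S : Spec) (g : ℕ) : List AL :=
  bif Nat.beq (S.rho g) g then [(g, some [[]])] else [(g, some [[]]), (S.rho g, some [[]])]

/-- The moves of a leaf: conjugate at one, by a generator, or at a parameter of trace one. -/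
inductive Op
  | x (g : ℕ)
  | w (j : ℕ)
  | t (g : ℕ)

/-- The word after one move. -/
def stepW (S : Spec) (P : Pk) : Op → List ℕ → List AL
  | .x g, l => nfK P S.ky (cW1 S g ++ oneW l ++ cW1 S g)
  | .w j, l => nfK P S.ky (l.map fun r => (wl P (S.gens.getD j []) r, some [[]]))
  | .t g, l => (nfK P S.ky (cW S g ++ oneW l ++ cW S g)).filter fun e =>
      match e.2 with
      | some p => !(zeroS (p ++ [[lam], [lamB], []]))
      | none => true

/-- A move is allowed. -/
def okOp (S : Spec) (P : Pk) : Op → List ℕ → Bool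
  | .x g, _ => ckCW S P g
  | .w j, l => Nat.blt j S.gens.length && (S.gens.getD j []).all (fun x => Nat.blt x P.rank) &&
      l.all fun r => Nat.blt r P.nroots
  | .t g, _ => ckCW S P g && !(Nat.beq (S.rho g) g)

/-- The moves end at the target. -/
def ckPathT (S : Spec) (P : Pk) : List Op → List ℕ → List ℕ → Bool
  | [], l, R => allOne (nfK P S.ky (oneW R)) && eqLs l ((nfK P S.ky (oneW R)).map Prod.fst)
  | op :: ops, l, R => okOp S P op l && allOne (stepW S P op l) && ckPathT S P ops ((stepW S P op l).map Prod.fst) R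

/-- A leaf with its representative and moves. -/
abbrev TLeaf := List ℕ × ℕ × List Op

/-- The check of one leaf. -/
def ckLeafT (S : Spec) (P : Pk) (reps : List (List ℕ)) (c : TLeaf) : Bool :=
  ckTorus P c.1 && c.1.all (fun a => c.1.any (Nat.beq (S.rho a))) && Nat.blt c.2.1 reps.length &&
    ckPathT S P c.2.2 c.1 (reps.getD c.2.1 [])

variable {D : ChevalleyDatum} {P : Pk} {h : Ok D P} {S : Spec} {F : Type*} [Field F] [CharP F 2] [Fintype F]
  (hS : S.ck P = true) (hC : P.ckComm = true) (T : Grp D P h S F)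
include hS hC

/-- Moves inside the twisted group. -/
theorem pathT {R : List ℕ} : ∀ (ops : List Op) (l : List ℕ), ckPathT S P ops l R = true →
    ∃ x ∈ T.K, x * prd h (fun _ => (1 : F)) l * x⁻¹ = prd h (fun _ => 1) R
  | [], l, hck => by
    simp only [ckPathT, Bool.and_eq_true] at hck
    refine ⟨1, one_mem _, ?_⟩
    rw [eqLs_iff hck.2, one_mul, inv_one, mul_one,
      ← ev_one h hck.1 (ev_nfK h hC S.ky (ev_oneW h (v := fun _ => (1 : F)) R))]
  | op :: ops, l, hck => by
    simp only [ckPathT, Bool.and_eq_true] at hck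
    obtain ⟨⟨hop, hone⟩, hrest⟩ := hck
    obtain ⟨y, hy, ey⟩ := pathT ops _ hrest
    suffices ∃ x ∈ T.K, ∃ v : ℕ → F, Ev h v (stepW S P op l) (x * prd h (fun _ => (1 : F)) l * x⁻¹) by
      obtain ⟨x, hx, v, he⟩ := this
      refine ⟨y * x, mul_mem hy hx, ?_⟩
      rw [← ey, ← ev_one h hone he]
      group
    cases op with
    | x g =>
      obtain ⟨W, hW, hWW, hev⟩ := exists_conj hS hC T hop (fun _ => (1 : F)) 1 (fun _ => map_one _)
      have hv : ∀ x, lamV T (fun _ => (1 : F)) 1 x = 1 := fun x => by
        obtain ⟨v1, v2, v3⟩ := lamV_spec T (fun _ => (1 : F)) 1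
        by_cases e1 : x = lam
        · rw [e1, v1]
        by_cases e2 : x = lamB
        · rw [e2, v2, map_one]
        exact v3 x e1 e2
      have hev1 : Ev h (lamV T (fun _ => (1 : F)) 1) (cW1 S g) W := by
        unfold cW1
        unfold cW at hev
        cases hb : Nat.beq (S.rho g) g
        · rw [hb] at hev
          simpa [Ev, EvP, evS, evM, hv] using hev
        · rw [hb] at hev
          simpa [Ev, EvP, evS, evM, hv] using hev
      refine ⟨W, hW, lamV T (fun _ => (1 : F)) 1, ?_⟩
      rw [show W⁻¹ = W from inv_eq_of_mul_eq_one_right hWW]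
      exact ev_nfK h hC S.ky (ev_append h (ev_append h hev1 (ev_oneW h l)) hev1)
    | t g =>
      simp only [okOp, Bool.and_eq_true, Bool.not_eq_true', nbeq, decide_eq_false_iff_not] at hop
      obtain ⟨w, hw⟩ := T.moved
      set s := w + T.φ w with hsdef
      have hs0 : s ≠ 0 := fun e => hw ((CharTwo.add_eq_zero.1 e).symm)
      have hsf : T.φ s = s := by rw [hsdef, map_add, T.phi2, add_comm]
      set o := w / s with ho
      have hoo : o + T.φ o = 1 := by
        rw [ho, map_div₀, hsf, ← add_div, ← hsdef, div_self hs0]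
      obtain ⟨W, hW, hWW, hev⟩ := exists_conj hS hC T hop.1 (fun _ => (1 : F)) o (fun e => absurd e hop.2)
      obtain ⟨v1, v2, -⟩ := lamV_spec T (fun _ => (1 : F)) o
      refine ⟨W, hW, lamV T (fun _ => (1 : F)) o, ?_⟩
      rw [show W⁻¹ = W from inv_eq_of_mul_eq_one_right hWW]
      have h0 := ev_nfK h hC S.ky (ev_append h (ev_append h hev
        (ev_oneW h (v := lamV T (fun _ => (1 : F)) o) l)) hev)
      simp only [stepW]
      generalize nfK P S.ky (cW S g ++ oneW l ++ cW S g) = out at h0 ⊢
      generalize W * prd h (fun _ => (1 : F)) l * W = g' at h0 ⊢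
      induction out generalizing g' with
      | nil => exact h0
      | cons e out ih =>
        obtain ⟨x, g1, hx, hg1, rfl⟩ := h0
        obtain ⟨r, p⟩ := e
        cases p with
        | none =>
          rw [List.filter_cons_of_pos (by rfl)]
          exact ev_cons h (e := (r, none)) hx (ih _ hg1)
        | some p =>
          cases hz : zeroS (p ++ [[lam], [lamB], []])
          · rw [List.filter_cons_of_pos (by simp [hz])]
            exact ev_cons h (e := (r, some p)) hx (ih _ hg1)
          · rw [List.filter_cons_of_neg (by simp [hz])]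
            have h1 := zeroS_ev (v := lamV T (fun _ => (1 : F)) o) hz
            simp only [evS, List.map_append, List.sum_append, List.map_cons, List.map_nil, List.sum_cons,
              List.sum_nil, add_zero, evM, List.prod_cons, List.prod_nil, mul_one, v1, v2] at h1
            rw [← add_assoc o, hoo, CharTwo.add_self_eq_zero, add_zero] at h1
            rw [show x = 0 from (show x = _ from hx).trans h1, h.xG_zero, one_mul]
            exact ih _ hg1
    | w j =>
      simp only [okOp, Bool.and_eq_true, Nat.blt_eq, List.all_eq_true] at hop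
      obtain ⟨⟨hj, hw⟩, hl⟩ := hop
      obtain ⟨x, hx, e, -⟩ := exists_mv hS hC T (fun _ => (1 : F)) l hl [j] (by simpa using ⟨hj, hw⟩)
      refine ⟨x, hx, fun _ => 1, ev_nfK h hC S.ky ?_⟩
      rw [e]
      clear e hl hone hrest ey
      induction l with
      | nil => exact rfl
      | cons a l ih => exact ⟨1, _, by simp [EvP, evS, evM], ih, by simp [mvK, prd]⟩

/-- The image of a torus element. -/
theorem map_ht {a : ℕ} (ha : a < P.nroots) (s : F) : T.σ (h.ht a s) = h.ht (S.rho a) (T.φ s) := by
  obtain ⟨r1, -, r3⟩ := rho_spec hS ha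
  have hm : ∀ r (u : F), h.xG r u ∈ D.group F := fun r u => h.mem_group_of_xG r u
  have hnt : ∀ u, h.nt a u ∈ D.group F := fun u => mul_mem (mul_mem (hm _ _) (hm _ _)) (hm _ _)
  have hmap : ∀ u, T.σ (h.nt a u) = h.nt (S.rho a) (T.φ u) := fun u => by
    rw [Ok.nt, T.map_mul _ (mul_mem (hm _ _) (hm _ _)) _ (hm _ _), T.map_mul _ (hm _ _) _ (hm _ _),
      T.map_x a ha, T.map_x _ (Ok.ng_lt ha), r3, map_neg, map_inv₀, Ok.nt]
  rw [Ok.ht, T.map_mul _ (hnt _) _ (hnt _), hmap, hmap, map_neg, map_one, Ok.ht]

omit hC in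
theorem ht_group (a : ℕ) (s : F) : h.ht a s ∈ D.group F :=
  mul_mem (mul_mem (mul_mem (h.mem_group_of_xG _ _) (h.mem_group_of_xG _ _)) (h.mem_group_of_xG _ _))
    (mul_mem (mul_mem (h.mem_group_of_xG _ _) (h.mem_group_of_xG _ _)) (h.mem_group_of_xG _ _))

/-- Scaling to coefficient one. -/
theorem normalizeT {l : List ℕ} (hl : ckTorus P l = true) (hst : ∀ a ∈ l, S.rho a ∈ l) (t : ℕ → F)
    (hsym : T.Sym t) (ht : ∀ r ∈ l, t r ≠ 0) :
    ∃ x ∈ T.K, x * prd h t l * x⁻¹ = prd h (fun _ => 1) l := by
  classical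
  simp only [ckTorus, List.all_eq_true, Bool.and_eq_true, Nat.blt_eq, decide_eq_true_eq, Bool.or_eq_true, nbeq] at hl
  suffices ∀ (s : List ℕ), (∀ a ∈ s, a ∈ l) →
      ∃ x ∈ T.K, ∃ u : ℕ → F, x * prd h t l * x⁻¹ = prd h u l ∧ (∀ r ∈ l, u r ≠ 0) ∧
        (∀ r ∈ l, u (S.rho r) = T.φ (u r)) ∧ ∀ r ∈ s, u r = 1 by
    obtain ⟨x, hx, u, e, -, -, hu⟩ := this l fun a ha => ha
    exact ⟨x, hx, e.trans (congrArg List.prod (List.map_congr_left fun r hr => by rw [hu r hr]))⟩
  intro s
  induction s with
  | nil => exact fun _ => ⟨1, one_mem _, t, by simp, ht, fun r hr => hsym r (hl r hr).1.1, by simp⟩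
  | cons a s ih =>
    intro hs
    obtain ⟨x, hx, u, e, hu, hus, hu1⟩ := ih fun b hb => hs b (List.mem_cons_of_mem _ hb)
    have ha := hs a List.mem_cons_self
    obtain ⟨⟨han, haa⟩, hab⟩ := hl a ha
    have hb := hst a ha
    set b := S.rho a with hbdef
    obtain ⟨⟨hbn, hbb⟩, hba⟩ := hl b hb
    have hbinv : S.rho b = a := (rho_spec hS han).2.1
    obtain ⟨σ, hσ⟩ := exists_root (F := F) (k := 2) (Or.inr (Or.inl rfl)) (u a)⁻¹
    have hσ0 : σ ≠ 0 := fun e => hu a ha (by
      rw [e, zero_pow two_ne_zero] at hσ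
      exact inv_eq_zero.1 hσ.symm)
    have hub : u b = T.φ (u a) := hus a ha
    have hact : ∀ (a : ℕ) (han : a < P.nroots) (σ : F) (hσ0 : σ ≠ 0) (v : ℕ → F),
        h.ht a σ * prd h v l * (h.ht a σ)⁻¹ = prd h (fun r => σ ^ P.pair a r * v r) l := by
      intro a han σ hσ0 v
      rw [prd, prd, ← MulAut.conj_apply, ← MulEquiv.coe_toMonoidHom, map_list_prod, List.map_map]
      refine congrArg List.prod (List.map_congr_left fun r hr => ?_)
      rw [Function.comp_apply, MulEquiv.coe_toMonoidHom, MulAut.conj_apply, h.ht_eq han hσ0,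
        h.dG_xG _ (hl r hr).1.1]
    by_cases hab' : b = a
    · have hfix : T.φ σ = σ := CharTwo.sq_injective
        (show T.φ σ ^ 2 = σ ^ 2 by rw [← map_pow, hσ, map_inv₀, ← hub, hab'])
      refine ⟨h.ht a σ * x, mul_mem (T.mem _ (ht_group (h := h) hS a σ)
        (by rw [map_ht hS hC T han, ← hbdef, hab', hfix])) hx, Function.update u a 1, ?_, fun r hr => ?_,
        fun r hr => ?_, fun r hr => ?_⟩
      · rw [show h.ht a σ * x * prd h t l * (h.ht a σ * x)⁻¹ = h.ht a σ * (x * prd h t l * x⁻¹) * (h.ht a σ)⁻¹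
          by group, e, hact a han σ hσ0 u]
        refine congrArg List.prod (List.map_congr_left fun r hr => ?_)
        beta_reduce
        by_cases hra : r = a
        · subst hra
          rw [Function.update_self, haa, zpow_two, ← pow_two, hσ, inv_mul_cancel₀ (hu r hr)]
        · rw [Function.update_of_ne hra, (hab r hr).resolve_left (Ne.symm hra), zpow_zero, one_mul]
      · by_cases hra : r = a
        · subst hra; rw [Function.update_self]; exact one_ne_zero
        · rw [Function.update_of_ne hra]; exact hu r hr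
      · by_cases hra : r = a
        · subst hra; rw [← hbdef, hab', Function.update_self, map_one]
        · have : S.rho r ≠ a := fun e => hra (by
            have := (rho_spec hS (hl r hr).1.1).2.1
            rw [e, ← hbdef, hab'] at this; exact this.symm)
          rw [Function.update_of_ne hra, Function.update_of_ne this, hus r hr]
      · by_cases hra : r = a
        · subst hra; rw [Function.update_self]
        · rw [Function.update_of_ne hra]; exact hu1 r ((List.mem_cons.1 hr).resolve_left hra)
    · set σ' := T.φ σ with hσ'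
      have hσ'0 : σ' ≠ 0 := (map_ne_zero T.φ).2 hσ0
      have hcomm : h.ht a σ * h.ht b σ' = h.ht b σ' * h.ht a σ := by
        rw [h.ht_eq han hσ0, h.ht_eq hbn hσ'0]
        apply Units.ext
        rw [Units.val_mul, Units.val_mul, h.coe_dG, h.coe_dG, dM_mul, dM_mul]
        congr 1; funext x; rw [mul_comm]
      have hmem : h.ht a σ * h.ht b σ' ∈ T.K := T.mem _ (mul_mem (ht_group (h := h) hS a σ) (ht_group (h := h) hS b σ'))
        (by rw [T.map_mul _ (ht_group (h := h) hS a σ) _ (ht_group (h := h) hS b σ'), map_ht hS hC T han,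
          map_ht hS hC T hbn, hbinv, ← hbdef, ← hσ', hσ', T.phi2, hcomm])
      refine ⟨h.ht a σ * h.ht b σ' * x, mul_mem hmem hx, Function.update (Function.update u a 1) b 1, ?_,
        fun r hr => ?_, fun r hr => ?_, fun r hr => ?_⟩
      · rw [show h.ht a σ * h.ht b σ' * x * prd h t l * (h.ht a σ * h.ht b σ' * x)⁻¹ =
          h.ht a σ * (h.ht b σ' * (x * prd h t l * x⁻¹) * (h.ht b σ')⁻¹) * (h.ht a σ)⁻¹ by group, e,
          hact b hbn σ' hσ'0 u, hact a han σ hσ0]
        refine congrArg List.prod (List.map_congr_left fun r hr => ?_)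
        beta_reduce
        by_cases hrb : r = b
        · subst hrb
          rw [Function.update_self, (hab b hb).resolve_left (Ne.symm hab'), zpow_zero, one_mul, hbb, zpow_two,
            ← pow_two, hub, hσ', ← map_pow, hσ, ← map_mul, inv_mul_cancel₀ (hu a ha), map_one]
        · by_cases hra : r = a
          · rw [hra, Function.update_of_ne (hra ▸ hrb), Function.update_self, (hba a ha).resolve_left hab', zpow_zero,
              one_mul, haa, zpow_two, ← pow_two, hσ, inv_mul_cancel₀ (hu a ha)]
          · rw [Function.update_of_ne hrb, Function.update_of_ne hra, (hba r hr).resolve_left (Ne.symm hrb),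
              (hab r hr).resolve_left (Ne.symm hra), zpow_zero, one_mul, zpow_zero, one_mul]
      · by_cases hrb : r = b
        · subst hrb; rw [Function.update_self]; exact one_ne_zero
        · rw [Function.update_of_ne hrb]
          by_cases hra : r = a
          · subst hra; rw [Function.update_self]; exact one_ne_zero
          · rw [Function.update_of_ne hra]; exact hu r hr
      · by_cases hrb : r = b
        · subst hrb
          rw [hbinv, Function.update_self, Function.update_of_ne (Ne.symm hab'), Function.update_self, map_one]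
        · by_cases hra : r = a
          · subst hra
            rw [← hbdef, Function.update_self, Function.update_of_ne hrb, Function.update_self, map_one]
          · have h1 : S.rho r ≠ a := fun e => hrb (by
              have := (rho_spec hS (hl r hr).1.1).2.1
              rw [e, ← hbdef] at this; exact this.symm)
            have h2 : S.rho r ≠ b := fun e => hra (by
              have := (rho_spec hS (hl r hr).1.1).2.1
              rw [e, hbinv] at this; exact this.symm)
            rw [Function.update_of_ne hrb, Function.update_of_ne hra, Function.update_of_ne h2,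
              Function.update_of_ne h1, hus r hr]
      · by_cases hrb : r = b
        · subst hrb; rw [Function.update_self]
        · rw [Function.update_of_ne hrb]
          by_cases hra : r = a
          · subst hra; rw [Function.update_self]
          · rw [Function.update_of_ne hra]; exact hu1 r ((List.mem_cons.1 hr).resolve_left hra)

/-- Fixed elements of the unipotent group squaring to one are conjugate to a representative or trivial. -/
theorem coverU {tb : List TNode} {n root : ℕ} {cert : List TLeaf} {reps : List (List ℕ)} (hroot : root < n)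
    (hL : eqLs (bitsK S (getT tb root).1) S.lk = true) (hN : (bitsK S (getT tb root).2.1).isEmpty = true)
    (hck : ∀ i < n, ckT S P (cert.map Prod.fst) tb i = true) (hleaves : cert.all (ckLeafT S P reps) = true)
    {g : GL D.Idx F} (hg : g ∈ D.posUnipotent F) (hK : g ∈ T.K) (hsq : g * g = 1) :
    g = 1 ∨ ∃ R ∈ reps, ∃ x ∈ T.K, x * g * x⁻¹ = prd h (fun _ => 1) R := by
  let C : GL D.Idx F → Prop := fun y => y = 1 ∨ ∃ R ∈ reps, ∃ z ∈ T.K, z * y * z⁻¹ = prd h (fun _ => 1) R
  have hconj : ∀ z ∈ T.K, ∀ y, C (z * y * z⁻¹) → C y := by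
    intro z hz y hy
    rcases hy with hy | ⟨R, hR, w, hw, e⟩
    · exact Or.inl (by simpa using hy)
    · exact Or.inr ⟨R, hR, w * z, mul_mem hw hz, by rw [← e]; group⟩
  have hleaf : ∀ k < (cert.map Prod.fst).length, ∀ u : ℕ → F, T.Sym u →
      (∀ r ∈ (cert.map Prod.fst).getD k [], u r ≠ 0) → C (prd h u ((cert.map Prod.fst).getD k [])) := by
    intro k hk u hsym hu
    rw [List.length_map] at hk
    have hl : (cert.map Prod.fst).getD k [] = (cert[k]).1 := by simp [List.getD_eq_getElem?_getD, hk]
    rw [hl] at hu ⊢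
    have hc := List.all_eq_true.1 hleaves _ (List.getElem_mem hk)
    simp only [ckLeafT, Bool.and_eq_true, Nat.blt_eq, List.all_eq_true, List.any_eq_true, nbeq,
      decide_eq_true_eq] at hc
    obtain ⟨⟨⟨h1, h2⟩, h3⟩, h4⟩ := hc
    obtain ⟨z, hz, e⟩ := normalizeT hS hC T h1 (fun a ha => by
      obtain ⟨b, hb, e⟩ := h2 a ha; exact e ▸ hb) u hsym hu
    obtain ⟨w, hw, e'⟩ := pathT hS hC T _ _ h4
    refine hconj z hz _ (e ▸ Or.inr ⟨_, ?_, w, hw, e'⟩)
    rw [List.getD_eq_getElem?_getD, List.getElem?_eq_getElem h3]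
    exact List.getElem_mem h3
  have hgood := soundT hS hC T hconj (Or.inl rfl) hleaf tb n hck root hroot
  obtain ⟨u, hu⟩ := exists_lk hS hC hg
  obtain ⟨v, hv, hgv, -⟩ := exists_sym hS hC T (T.fixed _ hK) hu
  have hgood' := hgood v hv (fun r hr => by
    rw [List.isEmpty_iff] at hN
    rw [hN] at hr
    exact absurd hr List.not_mem_nil)
  rw [eqLs_iff hL, ← hgv] at hgood'
  exact hgood' (T.fixed _ hK) hsq

/-- The representatives lie in the twisted group. -/
theorem rep_mem {R : List ℕ} (hR : R.all (fun r => Nat.blt r P.nroots) = true)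
    (hswap : eqW (nfK P S.ky (R.map fun r => (S.rho r, some [[]]))) (nfK P S.ky (oneW R)) = true) :
    prd h (fun _ => (1 : F)) R ∈ T.K := by
  refine T.mem _ (Subgroup.list_prod_mem _ fun y hy => ?_) ?_
  · obtain ⟨r, -, rfl⟩ := List.mem_map.1 hy
    exact h.mem_group_of_xG _ _
  · rw [map_prd hS T _ R fun r hr => Nat.blt_eq ▸ List.all_eq_true.1 hR r hr]
    simp only [map_one]
    refine eqW_ev h hswap (ev_nfK (v := fun _ => (1 : F)) h hC S.ky ?_) (ev_nfK h hC S.ky (ev_oneW h R))
    clear hswap hR
    induction R with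
    | nil => exact rfl
    | cons a R ih => exact ⟨1, _, by simp [EvP, evS, evM], ih, by simp⟩

omit hS hC in
/-- The number of classes of involutions of a subgroup. -/
theorem class_countK {K : Subgroup (GL D.Idx F)} {reps : List (List ℕ)}
    (hR : ∀ i : Fin reps.length, prd h (fun _ => (1 : F)) reps[i] ∈ K ∧
      orderOf (prd h (fun _ => (1 : F)) reps[i]) = 2)
    (hcov : ∀ g ∈ K, orderOf g = 2 → ∃ R ∈ reps, ∃ x ∈ K, x * g * x⁻¹ = prd h (fun _ => 1) R)
    (hsep : ∀ i j, i < reps.length → j < reps.length → i ≠ j → ∀ x ∈ K,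
      x * prd h (fun _ => (1 : F)) (reps.getD i []) * x⁻¹ ≠ prd h (fun _ => 1) (reps.getD j [])) :
    (ConjClasses.mk '' {g : ↥K | orderOf g = 2}).ncard = reps.length := by
  let f : Fin reps.length → ConjClasses ↥K := fun i => ConjClasses.mk ⟨_, (hR i).1⟩
  have hf : Function.Injective f := by
    intro i j e
    obtain ⟨c, hc⟩ := isConj_iff.1 (ConjClasses.mk_eq_mk_iff_isConj.1 e)
    by_contra hij
    refine hsep i j i.isLt j.isLt (Fin.val_ne_of_ne hij) (c : GL D.Idx F) c.2 ?_
    rw [List.getD_eq_getElem _ _ i.isLt, List.getD_eq_getElem _ _ j.isLt]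
    exact congrArg Subtype.val hc
  rw [show ConjClasses.mk '' {g : ↥K | orderOf g = 2} = Set.range f from ?_,
    Set.ncard_range_of_injective hf, Nat.card_eq_fintype_card, Fintype.card_fin]
  refine Set.Subset.antisymm ?_ ?_
  · rintro _ ⟨g, hg, rfl⟩
    have ho : orderOf (g : GL D.Idx F) = 2 := by rw [Subgroup.orderOf_coe]; exact hg
    obtain ⟨R, hR', x, hx, e⟩ := hcov _ g.2 ho
    obtain ⟨i, hi, rfl⟩ := List.getElem_of_mem hR'
    exact ⟨⟨i, hi⟩, (ConjClasses.mk_eq_mk_iff_isConj.2 (isConj_iff.2 ⟨⟨x, hx⟩, Subtype.ext e⟩)).symm⟩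
  · rintro _ ⟨i, rfl⟩
    exact ⟨⟨_, (hR i).1⟩, show orderOf _ = 2 by rw [← Subgroup.orderOf_coe]; exact (hR i).2, rfl⟩

end Cfsg.Agent.Chev.InvolCert.Tw
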