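/-
The three classes of involutions of 2E6 in characteristic two.
-/
import Cfsg.Agent.Lib.Chev.InvolCert.Tw.E6Data
import Cfsg.Agent.Lib.Chev.InvolCert.E6.Main
import Cfsg.Agent.Lib.Chev.TwE6Thm

set_option autoImplicit false
set_option maxHeartbeats 1000000

namespace Cfsg.Agent.Chev.InvolCert.Tw.E6

open Cfsg.Lie Cfsg.Agent.Chev Cfsg.Agent.Chev.InvolCert Cfsg.Agent.Chev.InvolCert.Tw

variable {K : Type*} [Field K] [Fintype K] [CharP K 2] {q : ℕ} (φ : K →+* K) (hφ : ∀ t, φ t = t ^ q)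
  (hK : Fintype.card K = q ^ 2) (hq : IsPrimePow q)
  (G : TwistGrp (TwE6.T φ)) (hG : G.G1 = twistedE6 K q) (hO : G.O.orbs = Chev.E6.orbsT)

include hφ hK hq hG hO in
/-- The twisted group with its data. -/
theorem exists_data : ∃ T : Grp chevE6 Chev.E6.pk Chev.E6.ok spec K, T.K = twistedE6 K q ∧ T.σ = (TwE6.T φ).σ := by
  have hmoved : ∃ w, φ w ≠ w := by
    by_contra hall
    push Not at hall
    obtain ⟨e, -⟩ := Std.fixed_field_card (F := K) hq.two_le (by omega : 1 ≤ 2) hK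
    have hb : Function.Bijective (fun t : {t : K // t ^ q = t} => t.1) :=
      ⟨Subtype.val_injective, fun t => ⟨⟨t, (hφ t).symm.trans (hall t)⟩, rfl⟩⟩
    have := Nat.card_eq_of_bijective _ hb
    rw [e, Nat.card_eq_fintype_card, hK] at this
    have h2 := hq.two_le
    nlinarith
  have heps : ∀ r, ((gE6.eps r : ℤ) : K) = 1 := fun r => by
    unfold Gph.eps
    cases gE6.negs.any (Nat.beq r) <;> simp [CharTwo.neg_eq]
  have hfix : (TwE6.T φ).fixed = twistedE6 K q := by rw [← hG, G.eq_fixed ckComm_E6]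
  refine ⟨{ σ := (TwE6.T φ).σ, φ := φ, K := twistedE6 K q, phi2 := TwE6.phi2 φ hφ hK,
            map_mul := (TwE6.T φ).map_mul',
            map_x := fun r hr t => ?_, le := ?_, fixed := fun g hg => ?_, mem := fun g hg e => ?_,
            gens := fun l hl => ?_, moved := hmoved }, rfl, rfl⟩
  · rw [(TwE6.T φ).σ_xG r hr t]
    show Chev.E6.ok.xG (gE6.rr r) ((gE6.eps r : K) * φ t) = _
    rw [heps, one_mul]
    rfl
  · exact fun g hg => G.le_group (hG.symm ▸ hg)
  · exact ((TwE6.T φ).mem_fixed.1 (hfix.symm ▸ hg)).2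
  · exact hfix ▸ (TwE6.T φ).mem_fixed.2 ⟨hg, e⟩
  · have hmem : ∃ o ∈ Chev.E6.orbsT, o.2 = l := by
      have : ∀ l ∈ spec.gens, Chev.E6.orbsT.any (fun o => decide (o.2 = l)) = true := by decide +kernel
      simpa using this l hl
    obtain ⟨o, ho, rfl⟩ := hmem
    exact hG ▸ G.nW_mem o (hO ▸ ho)

include hφ hK hq hG hO in
theorem ncard_eq : (ConjClasses.mk '' {g : ↥(twistedE6 K q) | orderOf g = 2}).ncard = 3 := by
  classical
  haveI : Fact (Nat.Prime 2) := ⟨Nat.prime_two⟩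
  obtain ⟨T, hTK, -⟩ := exists_data φ hφ hK hq G hG hO
  have hroot : eqLs (bitsK spec (getT tbl 280).1) spec.lk = true ∧
      (bitsK spec (getT tbl 280).2.1).isEmpty = true ∧
      cert.all (ckLeafT spec Chev.E6.pk InvolCert.E6.reps) = true := by decide +kernel
  have hreps : ∀ R ∈ InvolCert.E6.reps, R.all (fun r => Nat.blt r Chev.E6.pk.nroots) = true ∧
      eqW (nfK Chev.E6.pk spec.ky (R.map fun r => (spec.rho r, some [[]]))) (nfK Chev.E6.pk spec.ky (oneW R)) = true := by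
    decide +kernel
  rw [← hTK]
  refine (class_countK (reps := InvolCert.E6.reps) (fun i => ?_) (fun g hg ho => ?_)
    (fun i j hi hj hij x hx => InvolCert.E6.sep i j hi hj hij x (T.le hx))).trans rfl
  · have hm := List.getElem_mem (l := InvolCert.E6.reps) i.isLt
    exact ⟨rep_mem spec_ok ckComm_E6 T (hreps _ hm).1 (hreps _ hm).2,
      (rep_spec Chev.E6.ok ckComm_E6 (List.all_eq_true.1 InvolCert.E6.reps_ok _ hm)).2⟩
  · rw [hTK] at hg
    set U : Subgroup (twistedE6 K q) :=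
      (chevE6.posUnipotent K ⊓ (TwE6.T φ).fixed).subgroupOf (twistedE6 K q)
    have hle : chevE6.posUnipotent K ⊓ (TwE6.T φ).fixed ≤ twistedE6 K q := hG ▸ G.pos_fixed_le ckComm_E6
    have hUc : Nat.card U = q ^ 36 := by
      rw [Nat.card_congr (Subgroup.subgroupOfEquivOfLe hle).toEquiv, TwE6.card_pos hφ hK hq G hO]
    obtain ⟨n, -, hn⟩ := FiniteField.card K 2
    obtain ⟨k, -, hq2⟩ := (Nat.dvd_prime_pow Nat.prime_two).1
      (show q ∣ 2 ^ (n : ℕ) by rw [← hn, hK]; exact dvd_pow_self q (by omega))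
    have hk : k ≠ 0 := fun e => hq.one_lt.ne' (by rw [hq2, e, pow_zero])
    have hU : IsPGroup 2 U := IsPGroup.of_card (n := k * 36) (by rw [hUc, hq2, pow_mul])
    have hidx : ¬ 2 ∣ U.index := by
      intro hd
      have h := U.card_mul_index
      rw [hUc] at h
      have ho' := TwE6.order_eq hφ hK hq G hG hO
      rw [← h] at ho'
      have heven : 2 ∣ q := hq2 ▸ dvd_pow_self 2 hk
      have hodd : ∀ m, 1 ≤ m → ¬ 2 ∣ q ^ m - 1 ∧ ¬ 2 ∣ q ^ m + 1 := fun m hm => by
        have e1 : 1 ≤ q ^ m := Nat.one_le_pow _ _ hq.pos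
        have e2 : 2 ∣ q ^ m := heven.trans (dvd_pow_self q (by omega))
        omega
      have h2 : 2 ∣ (q ^ 2 - 1) * (q ^ 5 + 1) * (q ^ 6 - 1) * (q ^ 8 - 1) * (q ^ 9 + 1) * (q ^ 12 - 1) := by
        refine dvd_trans hd ⟨Nat.gcd 3 (q + 1), ?_⟩
        refine Nat.eq_of_mul_eq_mul_left (pow_pos hq.pos 36) ?_
        simp only [← mul_assoc]
        rw [← ho']
        ring
      simp only [Nat.Prime.dvd_mul Nat.prime_two] at h2
      rcases h2 with ((((h2 | h2) | h2) | h2) | h2) | h2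
      · exact (hodd 2 (by omega)).1 h2
      · exact (hodd 5 (by omega)).2 h2
      · exact (hodd 6 (by omega)).1 h2
      · exact (hodd 8 (by omega)).1 h2
      · exact (hodd 9 (by omega)).2 h2
      · exact (hodd 12 (by omega)).1 h2
    set g' : twistedE6 K q := ⟨g, hg⟩
    have hp : IsPGroup 2 (Subgroup.zpowers g') := by
      refine IsPGroup.of_card (n := 1) ?_
      rw [Nat.card_zpowers, pow_one, ← ho, ← Subgroup.orderOf_coe]
    obtain ⟨S, hS⟩ := hp.exists_le_sylow
    obtain ⟨x, hx⟩ := MulAction.exists_smul_eq (twistedE6 K q) S (hU.toSylow hidx)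
    have hxU : x * g' * x⁻¹ ∈ U := by
      have h1 : x * g' * x⁻¹ ∈ ((x • S : Sylow 2 (twistedE6 K q)) : Subgroup (twistedE6 K q)) := by
        rw [Sylow.coe_subgroup_smul, Subgroup.mem_pointwise_smul_iff_inv_smul_mem]
        simpa [mul_assoc] using hS (Subgroup.mem_zpowers g')
      rw [hx] at h1
      exact h1
    have hsq : g * g = 1 := by rw [← pow_two, ← ho, pow_orderOf_eq_one]
    have hmem := Subgroup.mem_subgroupOf.1 hxU
    have hval : ((x * g' * x⁻¹ : twistedE6 K q) : GL chevE6.Idx K) = (x : GL chevE6.Idx K) * g * (x : GL chevE6.Idx K)⁻¹ := by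
      push_cast; rfl
    rw [hval] at hmem
    rcases coverU spec_ok ckComm_E6 T (root := 280) (n := 281) (by norm_num) hroot.1 hroot.2.1
      (fun i hi => List.all_eq_true.1 nodes_ok i (List.mem_range.2 hi)) hroot.2.2 hmem.1
      (by rw [hTK]; exact mul_mem (mul_mem x.2 hg) (inv_mem x.2))
      (by rw [show (x : GL chevE6.Idx K) * g * (x : GL chevE6.Idx K)⁻¹ * ((x : GL chevE6.Idx K) * g * (x : GL chevE6.Idx K)⁻¹) =
            (x : GL chevE6.Idx K) * (g * g) * (x : GL chevE6.Idx K)⁻¹ by group, hsq]; group) with h1 | ⟨R, hR, z, hz, e⟩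
    · exfalso
      have : g = 1 := by simpa using h1
      rw [this, orderOf_one] at ho
      omega
    · exact ⟨R, hR, z * (x : GL chevE6.Idx K), mul_mem hz (by rw [hTK]; exact x.2), by rw [← e]; group⟩

end Cfsg.Agent.Chev.InvolCert.Tw.E6
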